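import Cfsg.Agent.Lib.SFourClosed.Tools
import Cfsg.Agent.Lib.PGroup.Basic

/-!
Bounds for the action on a reduced factor `X / X₀`.

Main results (namespace `Cfsg.Agent.TwoFactor`):
* `sec_bounds`: both squared bounds for an elementary factor with reduced action;
* `red_of_min`: the action on a minimal factor is reduced;
* `le_stab_of_stab`: `O²(G)` stabilising a chain of a 2-group centralises it;
* index tools.
-/

set_option autoImplicit false
set_option linter.unusedSectionVars false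
set_option linter.style.haveILetI false

namespace Cfsg.Agent.TwoFactor

open SFourClosed

universe u

/-- The bound on commutators, for an action with reduced `S₃`-free image. -/
theorem comm_bound_of_hom {Γ : Type u} [Group Γ] {V : Type u} [Group V] [Finite V] (φ : Γ →* MulAut V)
    (hc : ∀ v w : V, v * w = w * v) (h2 : ∀ v : V, v * v = 1) (hO : Cfsg.pCore 2 ↥φ.range = ⊥)
    (hS : ¬ Cfsg.Involves (Equiv.Perm (Fin 3)) ↥φ.range)
    (hK : Cfsg.IsCompositionKGroupWith Cfsg.IsSuzukiOrPSL2OddPowerThree ↥φ.range) (R : Subgroup Γ)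
    (hRc : ∀ r ∈ R, ∀ s ∈ R, φ r * φ s = φ s * φ r) (hRs : ∀ r ∈ R, φ r * φ r = 1)
    (D : Subgroup V) (hD : ∀ r ∈ R, ∀ v, φ r v * v⁻¹ ∈ D) :
    φ.ker.relIndex R ^ 2 ≤ Nat.card D := by
  haveI : Finite (MulAut V) := Finite.of_injective (fun f : MulAut V => (f : V → V)) DFunLike.coe_injective
  let W := SemidirectProduct V φ.range φ.range.subtype
  haveI : Finite W := Finite.of_equiv _ SemidirectProduct.equivProd.symm
  let inl : V →* W := SemidirectProduct.inl
  let inr : ↥φ.range →* W := SemidirectProduct.inr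
  set M := inl.range with hM
  set Gs := inr.range with hGs
  set A := (R.map φ.rangeRestrict).map inr with hA
  let e := MonoidHom.ofInjective (SemidirectProduct.inr_injective : Function.Injective inr)
  have hMn : M.Normal := by
    rw [hM, show inl.range = _ from SemidirectProduct.range_inl_eq_ker_rightHom]
    infer_instance
  have hMel : Cfsg.IsElementaryAbelian 2 M := by
    refine ⟨⟨⟨?_⟩⟩, ?_⟩
    · rintro ⟨_, a, rfl⟩ ⟨_, b, rfl⟩
      refine Subtype.ext ?_
      show inl a * inl b = inl b * inl a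
      rw [← map_mul, ← map_mul, hc]
    · rintro _ ⟨a, rfl⟩
      rw [← map_pow, pow_two, h2, map_one]
  have haut : ∀ (g : ↥φ.range) (v : V), inl ((g : MulAut V) v) = inr g * inl v * (inr g)⁻¹ := fun g v => by
    rw [← map_inv]
    exact SemidirectProduct.inl_aut g v
  have hf : Gs ⊓ Subgroup.centralizer (M : Set W) = ⊥ := by
    rw [eq_bot_iff]
    rintro _ ⟨⟨g, rfl⟩, hg⟩
    refine Subgroup.mem_bot.2 ?_
    have : g = 1 := Subtype.ext (MulEquiv.ext fun v => (SemidirectProduct.inl_injective : Function.Injective inl)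
      (by rw [haut g v, ← Subgroup.mem_centralizer_iff.1 hg (inl v) ⟨v, rfl⟩, mul_inv_cancel_right]; rfl))
    rw [this, map_one]
  have hAe : Cfsg.IsElementaryAbelian 2 A := by
    refine ⟨⟨⟨?_⟩⟩, ?_⟩
    · rintro ⟨_, _, ⟨r, hr, rfl⟩, rfl⟩ ⟨_, _, ⟨s, hs, rfl⟩, rfl⟩
      refine Subtype.ext ?_
      show inr _ * inr _ = inr _ * inr _
      exact (Commute.map (show Commute (φ.rangeRestrict r) (φ.rangeRestrict s) from
        Subtype.ext (hRc r hr s hs)) inr).eq
    · rintro _ ⟨_, ⟨r, hr, rfl⟩, rfl⟩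
      rw [← map_pow, pow_two]
      rw [show φ.rangeRestrict r * φ.rangeRestrict r = 1 from Subtype.ext (hRs r hr), map_one]
  have hbq := (S2752.result M Gs hMel (by rw [Subgroup.normalizer_eq_top]; exact le_top) hf
    (by rw [← Cores.pCore_map_mulEquiv e 2, hO, Subgroup.map_bot])
    (fun h => hS (Involves.involves_of_surjective e.toMonoidHom e.surjective h))
    (comps_of_surjective e.toMonoidHom e.surjective hK) A (Subgroup.map_le_range _ _) hAe).2
  have hcA : Nat.card A = φ.ker.relIndex R := by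
    rw [hA, Subgroup.card_map_of_injective SemidirectProduct.inr_injective, Subgroup.relIndex_ker]
    have h := Subgroup.card_map_of_injective φ.range.subtype_injective (K := R.map φ.rangeRestrict)
    rw [Subgroup.map_map, MonoidHom.subtype_comp_rangeRestrict] at h
    exact h.symm
  have hle : ⁅M, A⁆ ≤ D.map inl := by
    rw [Subgroup.commutator_le]
    rintro _ ⟨v, rfl⟩ _ ⟨_, ⟨r, hr, rfl⟩, rfl⟩
    refine ⟨v * (φ r v)⁻¹, ?_, ?_⟩
    · simpa using D.inv_mem (hD r hr v)
    · rw [commutatorElement_def, map_mul, map_inv]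
      have h := haut (φ.rangeRestrict r) v
      rw [show ((φ.rangeRestrict r : ↥φ.range) : MulAut V) v = φ r v from rfl] at h
      rw [h, mul_inv_rev, mul_inv_rev, inv_inv]
      simp [mul_assoc]
  rw [← hcA, ← Subgroup.card_map_of_injective (SemidirectProduct.inl_injective : Function.Injective inl)]
  exact hbq.trans (Subgroup.card_le_of_le hle)

section
variable {G : Type u} [Group G] [Finite G]

/-- Images of `G / C(P)` for a normal 2-subgroup `P`. -/
theorem quot_props (hfree : ¬ Cfsg.Involves (Equiv.Perm (Fin 4)) G)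
    (hc : Cfsg.IsCompositionKGroupWith Cfsg.IsSuzukiOrPSL2OddPowerThree G) {P : Subgroup G} [P.Normal]
    (hP : IsPGroup 2 P) {Y : Type u} [Group Y] (f : G →* Y) (hf : Function.Surjective f)
    (hker : Subgroup.centralizer (P : Set G) ≤ f.ker) :
    ¬ Cfsg.Involves (Equiv.Perm (Fin 3)) Y ∧
      Cfsg.IsCompositionKGroupWith Cfsg.IsSuzukiOrPSL2OddPowerThree Y := by
  refine ⟨fun h => hfree (S2759.result.2 ⟨P, hP, ?_⟩), comps_of_surjective f hf hc⟩
  let N := Subgroup.normalizer (P : Set G)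
  have htop : N = ⊤ := Subgroup.normalizer_eq_top P
  let f' : ↥N →* Y := f.comp N.subtype
  have hf' : Function.Surjective f' := fun y => by
    obtain ⟨g, rfl⟩ := hf y
    exact ⟨⟨g, htop ▸ trivial⟩, rfl⟩
  refine Involves.involves_of_surjective (QuotientGroup.lift _ f' fun x hx => ?_)
    (QuotientGroup.lift_surjective_of_surjective _ _ hf' _) h
  exact hker hx

theorem stab_bot (X : Subgroup G) : stab X (⊥ : Subgroup G) = Subgroup.centralizer (X : Set G) := by
  refine le_antisymm (fun g hg => Subgroup.mem_centralizer_iff.2 fun x hx => ?_) (centralizer_le_stab X ⊥)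
  have h := Subgroup.mem_bot.1 (mem_stab.1 hg x hx)
  rw [mul_inv_eq_one, mul_inv_eq_iff_eq_mul] at h
  exact h.symm

/-- Both bounds on an elementary factor with reduced action. -/
theorem sec_bounds (hfree : ¬ Cfsg.Involves (Equiv.Perm (Fin 4)) G)
    (hc : Cfsg.IsCompositionKGroupWith Cfsg.IsSuzukiOrPSL2OddPowerThree G) (X X0 : Subgroup G) [X.Normal]
    [X0.Normal] (hX : IsPGroup 2 X) (hcX : ∀ x ∈ X, ∀ y ∈ X, x * y * x⁻¹ * y⁻¹ ∈ X0)
    (hsX : ∀ x ∈ X, x * x ∈ X0)
    (hred : ∀ P : Subgroup G, P.Normal → PReduced.pMod 2 (stab X X0) P → P ≤ stab X X0) {R : Subgroup G}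
    (hRc : ∀ r ∈ R, ∀ s ∈ R, r * s * r⁻¹ * s⁻¹ ∈ stab X X0) (hRs : ∀ r ∈ R, r * r ∈ stab X X0) :
    (stab X X0).relIndex R ^ 2 ≤ (stab R X0).relIndex X ∧
      ∀ D : Subgroup G, D ≤ X → (∀ r ∈ R, ∀ x ∈ X, r * x * r⁻¹ * x⁻¹ ∈ D) →
        (stab X X0).relIndex R ^ 2 ≤ X0.relIndex D := by
  set φ := secHom X X0 with hφ
  have hker : φ.ker = stab X X0 := secHom_ker X X0
  obtain ⟨h1, h2⟩ := quot_props hfree hc hX φ.rangeRestrict φ.rangeRestrict_surjective
    (by rw [MonoidHom.ker_rangeRestrict, hker]; exact centralizer_le_stab X X0)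
  have hO : Cfsg.pCore 2 ↥φ.range = ⊥ := by
    rw [eq_bot_iff]
    intro q hq
    obtain ⟨g, rfl⟩ := φ.rangeRestrict_surjective q
    have hg : g ∈ stab X X0 := by
      refine hred ((Cfsg.pCore 2 ↥φ.range).comap φ.rangeRestrict) ((Cores.pCore_normal 2 _).comap _)
        (fun p hp => ?_) hq
      obtain ⟨k, hk⟩ := Cores.isPGroup_pCore 2 ↥φ.range ⟨φ.rangeRestrict p, hp⟩
      refine ⟨k, ?_⟩
      rw [← hker, MonoidHom.mem_ker, map_pow]
      exact congrArg (fun z : ↥(Cfsg.pCore 2 ↥φ.range) => ((z : ↥φ.range) : MulAut (↥X ⧸ X0.subgroupOf X))) hk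
    rw [← hker] at hg
    exact Subgroup.mem_bot.2 (Subtype.ext hg)
  have hcV : ∀ v w : ↥X ⧸ X0.subgroupOf X, v * w = w * v := by
    intro v w
    induction v using QuotientGroup.induction_on with | _ v => ?_
    induction w using QuotientGroup.induction_on with | _ w => ?_
    rw [← QuotientGroup.mk_mul, ← QuotientGroup.mk_mul, QuotientGroup.eq_iff_div_mem, Subgroup.mem_subgroupOf]
    simpa [div_eq_mul_inv, mul_assoc] using hcX v v.2 w w.2
  have hsV : ∀ v : ↥X ⧸ X0.subgroupOf X, v * v = 1 := by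
    intro v
    induction v using QuotientGroup.induction_on with | _ v => ?_
    rw [← QuotientGroup.mk_mul, QuotientGroup.eq_one_iff, Subgroup.mem_subgroupOf]
    exact hsX v v.2
  have hR1 : ∀ r ∈ R, ∀ s ∈ R, φ r * φ s = φ s * φ r := fun r hr s hs => by
    have h : r * s * r⁻¹ * s⁻¹ ∈ φ.ker := by rw [hker]; exact hRc r hr s hs
    rw [MonoidHom.mem_ker, map_mul, map_mul, map_mul, map_inv, map_inv, mul_inv_eq_one,
      mul_inv_eq_iff_eq_mul] at h
    exact h
  have hR2 : ∀ r ∈ R, φ r * φ r = 1 := fun r hr => by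
    have h : r * r ∈ φ.ker := by rw [hker]; exact hRs r hr
    rwa [MonoidHom.mem_ker, map_mul] at h
  constructor
  · have h3 := bound_of_hom φ hcV hsV hO h1 h2 R hR1 hR2
    rw [hker, ← Subgroup.index_comap_of_surjective _ (QuotientGroup.mk'_surjective (X0.subgroupOf X))] at h3
    refine h3.trans (le_of_eq ?_)
    show _ = ((stab R X0).subgroupOf X).index
    congr 1
    ext x
    constructor
    · intro hx
      refine mem_stab.2 fun r hr => ?_
      have h := X0.inv_mem (secHom_fix.1 (hx r hr))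
      simpa [mul_inv_rev, mul_assoc] using h
    · intro hx r hr
      refine secHom_fix.2 ?_
      simpa [mul_inv_rev, mul_assoc] using X0.inv_mem (mem_stab.1 hx r hr)
  · intro D hDX hD
    have h3 := comm_bound_of_hom φ hcV hsV hO h1 h2 R hR1 hR2
      ((D.subgroupOf X).map (QuotientGroup.mk' (X0.subgroupOf X))) (fun r hr v => by
        induction v using QuotientGroup.induction_on with | _ x => ?_
        refine ⟨⟨r * x * r⁻¹ * (x : G)⁻¹, hDX (hD r hr x x.2)⟩, hD r hr x x.2, ?_⟩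
        show _ = ((MulAut.conjNormal r x : ↥X) : ↥X ⧸ X0.subgroupOf X) * ((x : ↥X ⧸ X0.subgroupOf X))⁻¹
        rw [← QuotientGroup.mk_inv, ← QuotientGroup.mk_mul]
        refine congrArg _ (Subtype.ext ?_)
        rw [Subgroup.coe_mul, Subgroup.coe_inv, MulAut.conjNormal_apply])
    rw [← Subgroup.relIndex_ker, QuotientGroup.ker_mk', Subgroup.relIndex_subgroupOf hDX, hker] at h3
    exact h3

/-- A fixed point of `S` in a factor. -/
theorem exists_fixed (S : Sylow 2 G) (X X0 : Subgroup G) [X.Normal] [X0.Normal]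
    (hX : X ≤ (S : Subgroup G)) (hne : ¬ X ≤ X0) :
    ∃ x ∈ X, x ∉ X0 ∧ ∀ s ∈ (S : Subgroup G), s * x * s⁻¹ * x⁻¹ ∈ X0 := by
  haveI : Fact (Nat.Prime 2) := ⟨Nat.prime_two⟩
  set q := QuotientGroup.mk' X0 with hq
  set T := (S : Subgroup G).map q
  haveI : (X.map q).Normal := (inferInstance : X.Normal).map q (QuotientGroup.mk'_surjective X0)
  have hN : (X.map q).subgroupOf T ≠ ⊥ := by
    intro h
    rw [Subgroup.subgroupOf_eq_bot] at h
    have h' : X.map q = ⊥ := eq_bot_iff.2 fun y hy => h.le_bot ⟨hy, Subgroup.map_mono hX hy⟩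
    rw [Subgroup.map_eq_bot_iff, hq, QuotientGroup.ker_mk'] at h'
    exact hne h'
  haveI : ((X.map q).subgroupOf T).Normal := inferInstance
  obtain ⟨z, hz, hz1⟩ := (Subgroup.bot_or_exists_ne_one _).resolve_left
    (PGroup.inf_center_ne_bot (S.isPGroup'.map q) hN)
  obtain ⟨x, hx, hxz⟩ := Subgroup.mem_subgroupOf.1 hz.1
  refine ⟨x, hx, fun h => hz1 ?_, fun s hs => ?_⟩
  · refine Subtype.ext ?_
    rw [← hxz]
    exact (QuotientGroup.eq_one_iff x).2 h
  · rw [← QuotientGroup.eq_one_iff]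
    have h := congrArg Subtype.val (Subgroup.mem_center_iff.1 hz.2 ⟨q s, Subgroup.mem_map_of_mem q hs⟩)
    rw [Subgroup.coe_mul, Subgroup.coe_mul, ← hxz] at h
    show q (s * x * s⁻¹ * x⁻¹) = 1
    rw [map_mul, map_mul, map_mul, show q s * q x = q x * q s from h, map_inv, map_inv, mul_inv_cancel_right,
      mul_inv_cancel]

/-- The action on a minimal factor is reduced. -/
theorem red_of_min (S : Sylow 2 G) (X X0 : Subgroup G) [X.Normal] [X0.Normal] (hX : X ≤ (S : Subgroup G))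
    (hle : X0 ≤ X) (hne : ¬ X ≤ X0)
    (hmax : ∀ Y : Subgroup G, Y.Normal → X0 ≤ Y → Y ≤ X → X ≤ Y ∨ Y ≤ X0) :
    ∀ P : Subgroup G, P.Normal → PReduced.pMod 2 (stab X X0) P → P ≤ stab X X0 := by
  haveI : Fact (Nat.Prime 2) := ⟨Nat.prime_two⟩
  intro P hP hmod
  haveI := hP
  set K := stab X X0
  set P1 := P ⊔ K
  haveI : P1.Normal := inferInstance
  have hdec : P1 = K ⊔ ((S : Subgroup G) ⊓ P1) :=
    PReduced.eq_sup_sylow_inf_of_pMod S le_sup_right (PReduced.pMod_sup hmod)
  obtain ⟨x, hx, hx0, hfix⟩ := exists_fixed S X X0 hX hne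
  have hle' : P1 ≤ stab (Subgroup.zpowers x) X0 := by
    rw [hdec]
    refine sup_le (fun k hk => mem_stab.2 fun y hy => ?_) (inf_le_left.trans (le_stab_comm.1 ?_))
    · exact mem_stab.1 hk y (Subgroup.zpowers_le.2 hx hy)
    · refine Subgroup.zpowers_le.2 (mem_stab.2 fun s hs => ?_)
      simpa [mul_inv_rev, mul_assoc] using X0.inv_mem (hfix s hs)
  have hx0' : X0 ≤ stab P1 X0 := fun y hy => mem_stab.2 fun p _ => by
    rw [mul_assoc y p, mul_assoc y]
    exact mul_mem hy ((inferInstance : X0.Normal).conj_mem _ (X0.inv_mem hy) p)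
  rcases hmax (X ⊓ stab P1 X0) inferInstance (le_inf hle hx0') inf_le_left with h | h
  · exact le_sup_left.trans (le_stab_comm.2 (h.trans inf_le_right))
  · exact absurd (h ⟨hx, le_stab_comm.2 hle' (Subgroup.mem_zpowers x)⟩) hx0

/-- `O²(G)` stabilising a chain of a 2-group centralises it. -/
theorem le_stab_of_stab {Q A X : Subgroup G} [X.Normal] [A.Normal] (hQ : IsPGroup 2 Q) (hAQ : A ≤ Q)
    (h1 : Cfsg.pResidual 2 G ≤ stab A X) (h2 : Cfsg.pResidual 2 G ≤ stab Q A) :
    Cfsg.pResidual 2 G ≤ stab Q X := by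
  haveI : Fact (Nat.Prime 2) := ⟨Nat.prime_two⟩
  set L := Cfsg.pResidual 2 G
  set q := QuotientGroup.mk' X
  have hmod : PReduced.pMod 2 (Subgroup.centralizer ((Q.map q : Subgroup (G ⧸ X)) : Set (G ⧸ X))) (L.map q) := by
    refine PReduced.pMod_of_stabilizes (hQ.map q) (Subgroup.map_mono hAQ) ?_ ?_
    · rintro _ ⟨l, hl, rfl⟩
      exact h1 hl
    · rintro _ ⟨l, hl, rfl⟩ _ ⟨y, hy, rfl⟩
      exact ⟨l * y * l⁻¹ * y⁻¹, mem_stab.1 (h2 hl) y hy, by simp⟩
  refine (Subgroup.closure_le _).2 fun c hc => ?_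
  have hcL : c ∈ L := Subgroup.subset_closure hc
  obtain ⟨k, hk⟩ := hmod (q c) (Subgroup.mem_map_of_mem q hcL)
  rw [← map_pow] at hk
  have hk' : c ^ 2 ^ k ∈ stab Q X := hk
  have hco : Nat.Coprime (orderOf c) (2 ^ k) := Nat.Coprime.pow_right k hc
  obtain ⟨n, hn⟩ := exists_pow_eq_self_of_coprime hco.symm
  rw [← hn]
  exact pow_mem hk' n

theorem pResidual_le_of_sup (S : Sylow 2 G) {N : Subgroup G} [N.Normal] (h : N ⊔ (S : Subgroup G) = ⊤) :
    Cfsg.pResidual 2 G ≤ N := by
  refine (Subgroup.closure_le _).2 fun c hc => ?_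
  have hc' : c ∈ ((N ⊔ (S : Subgroup G) : Subgroup G) : Set G) := by rw [h]; trivial
  rw [Subgroup.normal_mul] at hc'
  obtain ⟨n, hn, s, hs, rfl⟩ := Set.mem_mul.1 hc'
  obtain ⟨k, hk⟩ := S.isPGroup' ⟨s, hs⟩
  have hk' : s ^ 2 ^ k = 1 := congrArg Subtype.val hk
  have h1 : ((n * s : G) : G ⧸ N) ^ 2 ^ k = 1 := by
    rw [QuotientGroup.mk_mul, (QuotientGroup.eq_one_iff n).2 hn, one_mul, ← QuotientGroup.mk_pow, hk',
      QuotientGroup.mk_one]
  rw [← QuotientGroup.mk_pow, QuotientGroup.eq_one_iff] at h1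
  have hco : Nat.Coprime (orderOf (n * s)) (2 ^ k) := Nat.Coprime.pow_right k hc
  obtain ⟨m, hm⟩ := exists_pow_eq_self_of_coprime hco.symm
  rw [← hm]
  exact pow_mem h1 m

theorem relIndex_le_of_inf_le {H A N : Subgroup G} (h : H ⊓ A ≤ N) : N.relIndex A ≤ H.relIndex A := by
  rw [← Subgroup.inf_relIndex_right H A]
  exact Subgroup.relIndex_le_of_le_left h Subgroup.index_ne_zero_of_finite

theorem relIndex_le_mul (H K A : Subgroup G) :
    H.relIndex A ≤ K.relIndex A * H.relIndex (A ⊓ K) := by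
  have h : (H ⊓ (A ⊓ K)).relIndex (A ⊓ K) * (A ⊓ K).relIndex A = (H ⊓ (A ⊓ K)).relIndex A :=
    Subgroup.relIndex_mul_relIndex _ _ _ inf_le_right inf_le_left
  rw [Subgroup.inf_relIndex_right, Subgroup.inf_relIndex_left] at h
  rw [mul_comm, h]
  exact Subgroup.relIndex_le_of_le_left inf_le_left Subgroup.index_ne_zero_of_finite

theorem relIndex_eq_mul {H K A : Subgroup G} (h : H ⊓ A ≤ K) :
    H.relIndex A = K.relIndex A * H.relIndex (A ⊓ K) := by
  have h' : (H ⊓ A).relIndex (A ⊓ K) * (A ⊓ K).relIndex A = (H ⊓ A).relIndex A :=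
    Subgroup.relIndex_mul_relIndex _ _ _ (le_inf inf_le_right h) inf_le_left
  rw [Subgroup.inf_relIndex_left, Subgroup.inf_relIndex_right] at h'
  rw [← h', mul_comm]
  congr 1
  rw [← Subgroup.inf_relIndex_right H (A ⊓ K), ← Subgroup.inf_relIndex_right (H ⊓ A) (A ⊓ K)]
  congr 1
  exact le_antisymm (inf_le_inf_right _ inf_le_left) (le_inf (le_inf inf_le_left (inf_le_right.trans inf_le_left)) inf_le_right)

theorem relIndex_pos (H K : Subgroup G) : 0 < H.relIndex K :=
  Nat.pos_of_ne_zero Subgroup.index_ne_zero_of_finite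

end

end Cfsg.Agent.TwoFactor
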