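import Cfsg.Agent.Lib.TwoFactor.Reduce

/-!
The witness inside `O₂(G)`.

Main results (namespace `Cfsg.Agent.TwoFactor`):
* `Wit.conj_commute`, `Wit.chain`: conjugates commute and the inequality passes to the normal closure;
* `Min.not_wit_le`: no witness of a minimal counterexample lies in `O₂(G)`.
-/

set_option autoImplicit false
set_option linter.unusedSectionVars false
set_option linter.style.haveILetI false

namespace Cfsg.Agent.TwoFactor

open SFourClosed AlperinFamily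

universe u

section
variable {G : Type u} [Group G] [Finite G] {S : Sylow 2 G} {V : Subgroup G}

theorem cj_le_core {A : Subgroup G} (hA : A ≤ Cfsg.pCore 2 G) (g : G) : cj g A ≤ Cfsg.pCore 2 G :=
  haveI := PReduced.pCore_normal 2 G
  (Subgroup.map_mono hA).trans (cj_eq_iff.2 ((Subgroup.normalizer_eq_top (Cfsg.pCore 2 G)).ge trivial)).le

theorem Wit.conj_commute (hV : Wit (S : Subgroup G) V) (hVO : V ≤ Cfsg.pCore 2 G) (g : G) :
    cj g V ≤ Subgroup.centralizer (V : Set G) := by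
  haveI : Fact (Nat.Prime 2) := ⟨Nat.prime_two⟩
  have hOS : Cfsg.pCore 2 G ≤ (S : Subgroup G) := PReduced.pCore_le_sylow S
  let r : G → ℕ := fun k => (Subgroup.centralizer (V : Set G)).relIndex (cj k V)
  have key : ∀ k : G, r k ≠ 1 → r k ^ 3 < r k⁻¹ ^ 2 := by
    intro k hk
    have hRe : Cfsg.IsElementaryAbelian 2 (cj k V : Subgroup G) :=
      (PLocal.elemAb_map_iff_of_injOn (MulAut.conj k).injective.injOn le_rfl).2 hV.2.2.1
    obtain ⟨m1, -⟩ := hV.2.2.2 _ ((cj_le_core hVO k).trans hOS)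
      (fun x hx y hy => by rw [JComp.elem_comm hRe hx hy, mul_inv_cancel_right, mul_inv_cancel]; exact one_mem _)
      (fun x hx => by rw [JComp.elem_mul_self hRe hx]; exact one_mem _)
      (fun h => hk (Subgroup.relIndex_eq_one.2 h))
    have e := relIndex_cj k (Subgroup.centralizer (V : Set G)) (cj k⁻¹ V)
    rw [cj_cj, mul_inv_cancel, cj_one, cj_cent] at e
    rwa [e] at m1
  refine Subgroup.relIndex_eq_one.1 ?_
  show r g = 1
  by_contra h1
  have k1 := key g h1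
  have hp : 0 < r g := relIndex_pos _ _
  have hp' : 0 < r g⁻¹ := relIndex_pos _ _
  have hlt : r g < r g⁻¹ := lt_of_pow_lt_pow_left₀ 2 (Nat.zero_le _)
    (lt_of_le_of_lt (Nat.pow_le_pow_right hp (by norm_num : 2 ≤ 3)) k1)
  have k2 := key g⁻¹ (by omega)
  rw [inv_inv] at k2
  exact absurd (lt_of_pow_lt_pow_left₀ 2 (Nat.zero_le _)
    (lt_of_le_of_lt (Nat.pow_le_pow_right hp' (by norm_num : 2 ≤ 3)) k2)) (by omega)

/-- The first inequality for the normal closure. -/
theorem Wit.chain (hV : Wit (S : Subgroup G) V) {B : Subgroup G} [B.Normal]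
    (hB : B = ⨆ g : G, cj g V) {E : Subgroup G} (hE : E ≤ Cfsg.pCore 2 G)
    (hEc : ∀ r ∈ E, ∀ s ∈ E, r * s * r⁻¹ * s⁻¹ ∈ Subgroup.centralizer (B : Set G))
    (hEs : ∀ r ∈ E, r * r ∈ Subgroup.centralizer (B : Set G)) :
    (Subgroup.centralizer (B : Set G)).relIndex E ^ 3 ≤ (Subgroup.centralizer (E : Set G)).relIndex B ^ 2 := by
  classical
  haveI : Fact (Nat.Prime 2) := ⟨Nat.prime_two⟩
  haveI : Fintype G := Fintype.ofFinite G
  haveI : (Subgroup.centralizer (B : Set G)).Normal := Subgroup.normal_centralizer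
  have hOS : Cfsg.pCore 2 G ≤ (S : Subgroup G) := PReduced.pCore_le_sylow S
  have hgB : ∀ g, cj g V ≤ B := fun g => hB ▸ le_iSup (fun g : G => cj g V) g
  suffices key : ∀ s : Finset G,
      (Subgroup.centralizer ((s.sup (fun g => cj g V) : Subgroup G) : Set G)).relIndex E ^ 3 ≤
        (Subgroup.centralizer (E : Set G)).relIndex (s.sup fun g => cj g V) ^ 2 by
    have h := key Finset.univ
    rwa [Finset.sup_univ_eq_iSup, ← hB] at h
  intro s
  induction s using Finset.induction_on with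
  | empty =>
    rw [Finset.sup_empty]
    have h1 : (Subgroup.centralizer ((⊥ : Subgroup G) : Set G)).relIndex E = 1 :=
      Subgroup.relIndex_eq_one.2 fun x _ => Subgroup.mem_centralizer_iff.2 fun y hy => by
        rw [Subgroup.mem_bot.1 hy, one_mul, mul_one]
    rw [h1, one_pow]
    exact Nat.one_le_pow _ _ (relIndex_pos _ _)
  | insert g t _ ih =>
    rw [Finset.sup_insert]
    set W := t.sup fun g => cj g V
    set V' := cj g V with hV'
    have hWB : W ≤ B := Finset.sup_le fun i _ => hgB i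
    have hcsup : Subgroup.centralizer ((V' ⊔ W : Subgroup G) : Set G) =
        Subgroup.centralizer (V' : Set G) ⊓ Subgroup.centralizer (W : Set G) :=
      le_antisymm (le_inf (Subgroup.centralizer_le (show V' ≤ V' ⊔ W from le_sup_left))
        (Subgroup.centralizer_le (show W ≤ V' ⊔ W from le_sup_right)))
        (le_cent_comm (sup_le (le_cent_comm inf_le_left) (le_cent_comm inf_le_right)))
    set E1 := Subgroup.centralizer (W : Set G) ⊓ E with hE1
    have e1 : (Subgroup.centralizer ((V' ⊔ W : Subgroup G) : Set G)).relIndex E =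
        (Subgroup.centralizer (V' : Set G)).relIndex E1 * (Subgroup.centralizer (W : Set G)).relIndex E := by
      rw [hcsup, hE1, Subgroup.relIndex_inf_mul_relIndex]
    have e2 : (Subgroup.centralizer (E : Set G)).relIndex W * (Subgroup.centralizer (E1 : Set G)).relIndex V' ≤
        (Subgroup.centralizer (E : Set G)).relIndex (V' ⊔ W) := by
      rw [relIndex_eq_mul (H := Subgroup.centralizer (E : Set G)) (K := Subgroup.centralizer (E1 : Set G))
        (A := V' ⊔ W) (inf_le_left.trans (Subgroup.centralizer_le inf_le_right)), mul_comm]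
      exact Nat.mul_le_mul
        (Subgroup.relIndex_le_of_le_right le_sup_left Subgroup.index_ne_zero_of_finite)
        (Subgroup.relIndex_le_of_le_right (le_inf le_sup_right (le_cent_comm inf_le_left))
          Subgroup.index_ne_zero_of_finite)
    -- the inequality for a conjugate
    have e3 : (Subgroup.centralizer (V' : Set G)).relIndex E1 ^ 3 ≤
        (Subgroup.centralizer (E1 : Set G)).relIndex V' ^ 2 := by
      by_cases hle : E1 ≤ Subgroup.centralizer (V' : Set G)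
      · rw [Subgroup.relIndex_eq_one.2 hle, one_pow]
        exact Nat.one_le_pow _ _ (relIndex_pos _ _)
      have hE1O : cj g⁻¹ E1 ≤ Cfsg.pCore 2 G := cj_le_core (inf_le_right.trans hE) g⁻¹
      have hCB : ∀ z ∈ Subgroup.centralizer (B : Set G),
          g⁻¹ * z * g ∈ Subgroup.centralizer (V : Set G) := fun z hz => by
        have h := (inferInstance : (Subgroup.centralizer (B : Set G)).Normal).conj_mem z hz g⁻¹
        rw [inv_inv] at h
        exact Subgroup.centralizer_le (show V ≤ B by simpa [cj_one] using hgB 1) h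
      obtain ⟨m1, -⟩ := hV.2.2.2 (cj g⁻¹ E1) (hE1O.trans hOS) (by
          rintro _ ⟨r, hr, rfl⟩ _ ⟨q, hq, rfl⟩
          have h := hCB _ (hEc r hr.2 q hq.2)
          simpa [mul_assoc] using h)
        (by
          rintro _ ⟨r, hr, rfl⟩
          have h := hCB _ (hEs r hr.2)
          simpa [mul_assoc] using h)
        (fun h => hle (by
          have h' : cj g (cj g⁻¹ E1) ≤ cj g (Subgroup.centralizer (V : Set G)) := Subgroup.map_mono h
          rwa [cj_cj, mul_inv_cancel, cj_one, cj_cent] at h'))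
      have f1 := relIndex_cj g (Subgroup.centralizer (V : Set G)) (cj g⁻¹ E1)
      have f2 := relIndex_cj g (Subgroup.centralizer ((cj g⁻¹ E1 : Subgroup G) : Set G)) V
      rw [cj_cent, cj_cj, mul_inv_cancel, cj_one] at f1 f2
      rw [← f1, ← f2] at m1
      exact m1.le
    rw [e1]
    refine le_trans ?_ (Nat.pow_le_pow_left e2 2)
    rw [mul_pow, mul_pow, mul_comm]
    exact Nat.mul_le_mul ih e3

theorem arith_one {b y a : ℕ} (h1 : b ≤ y * a) (h2 : a ^ 3 ≤ b ^ 2) (h3 : y ^ 4 ≤ b) (hy : 0 < y) :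
    b ≤ 1 := by
  have hb : 0 < b := lt_of_lt_of_le (pow_pos hy 4) h3
  have e1 : b ^ 2 * b ≤ b ^ 2 * y ^ 3 :=
    calc b ^ 2 * b = b ^ 3 := by ring
      _ ≤ (y * a) ^ 3 := Nat.pow_le_pow_left h1 3
      _ = a ^ 3 * y ^ 3 := by ring
      _ ≤ b ^ 2 * y ^ 3 := Nat.mul_le_mul_right _ h2
  have e2 : b ≤ y ^ 3 := Nat.le_of_mul_le_mul_left e1 (pow_pos hb 2)
  have e3 : y ^ 3 * y ≤ y ^ 3 * 1 := by rw [mul_one, ← pow_succ]; exact h3.trans e2
  have e4 : y = 1 := le_antisymm (Nat.le_of_mul_le_mul_left e3 (pow_pos hy 3)) hy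
  rwa [e4, one_pow] at e2

theorem arith_two {b y a c : ℕ} (h1 : b ≤ y * a) (h2 : a ^ 3 ≤ c ^ 2) (h3 : y ^ 2 * c ≤ b) (hy : 0 < y)
    (hc : 0 < c) : b ≤ 1 := by
  have e0 : y * (y * c) ≤ y * a := by rw [← mul_assoc, ← pow_two]; exact h3.trans h1
  have e1 : y * c ≤ a := Nat.le_of_mul_le_mul_left e0 hy
  have e2 : c ^ 2 * (y ^ 3 * c) ≤ c ^ 2 * 1 :=
    calc c ^ 2 * (y ^ 3 * c) = (y * c) ^ 3 := by ring
      _ ≤ a ^ 3 := Nat.pow_le_pow_left e1 3
      _ ≤ c ^ 2 * 1 := by rw [mul_one]; exact h2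
  have e3 : y ^ 3 * c ≤ 1 := Nat.le_of_mul_le_mul_left e2 (pow_pos hc 2)
  have e4 : c = 1 := le_antisymm (le_trans (Nat.le_mul_of_pos_left c (pow_pos hy 3)) e3) hc
  rw [e4, mul_one] at e3
  have e5 : y = 1 := le_antisymm (le_trans (Nat.le_self_pow (by norm_num) y) e3) hy
  rw [e4, one_pow] at h2
  have e6 : a ≤ 1 := le_trans (Nat.le_self_pow (by norm_num) a) h2
  rw [e5, one_mul] at h1
  exact h1.trans e6

namespace Min

variable (hM : Min S)
include hM

/-- The quadratic bound for a maximal elementary abelian subgroup. -/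
theorem sq_le {X X0 : Subgroup G} [X.Normal] [X0.Normal] {B A : Subgroup G}
    (hBe : Cfsg.IsElementaryAbelian 2 B) (hXB : X ≤ B)
    (hred : ∀ P : Subgroup G, P.Normal → PReduced.pMod 2 (stab X X0) P → P ≤ stab X X0)
    (hA : Cfsg.IsElementaryAbelian 2 A) :
    (stab X X0).relIndex A ^ 2 ≤ (stab A X0).relIndex X := by
  have hXe := PLocal.elemAb_mono hBe hXB
  obtain ⟨h1, h2⟩ := stab_comm_mem (X := X) (X0 := X0) hA
  exact (sec_bounds hM.hfree hM.hc X X0 (PLocal.elemAb_isPGroup hXe)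
    (fun x hx y hy => by
      rw [JComp.elem_comm hXe hx hy, mul_inv_cancel_right, mul_inv_cancel]; exact one_mem _)
    (fun x hx => by rw [JComp.elem_mul_self hXe hx]; exact one_mem _) hred (R := A) h1 h2).1

theorem not_wit_le (hV : Wit (S : Subgroup G) V)
    (hVL : ¬ Cfsg.pResidual 2 G ≤ Subgroup.centralizer (V : Set G))
    (hVO : V ≤ Cfsg.pCore 2 G) : False := by
  classical
  haveI : Fact (Nat.Prime 2) := ⟨Nat.prime_two⟩
  set O := Cfsg.pCore 2 G with hOdef
  haveI : O.Normal := PReduced.pCore_normal 2 G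
  haveI := PReduced.pResidual_normal 2 G
  have hOS : O ≤ (S : Subgroup G) := PReduced.pCore_le_sylow S
  have hJV := hV.jOf_le
  set J := Cfsg.thompsonSubgroupOf 2 (S : Subgroup G)
  -- the normal closure
  set B := ⨆ g : G, cj g V with hBdef
  have hgB : ∀ g, cj g V ≤ B := le_iSup (fun g : G => cj g V)
  have hVB : V ≤ B := by simpa [cj_one] using hgB 1
  have hcjB : ∀ x, cj x B ≤ B := fun x => by
    show (⨆ g : G, cj g V).map _ ≤ B
    rw [Subgroup.map_iSup]
    exact iSup_le fun g => (cj_cj V g x).le.trans (hgB (x * g))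
  haveI hBn : B.Normal := ⟨fun n hn x => hcjB x (conj_mem_cj x hn)⟩
  have hBO : B ≤ O := iSup_le fun g => cj_le_core hVO g
  have hBS : B ≤ (S : Subgroup G) := hBO.trans hOS
  have hpairs : ∀ g h : G, cj g V ≤ Subgroup.centralizer ((cj h V : Subgroup G) : Set G) := fun g h => by
    have h1 : cj h (cj (h⁻¹ * g) V) ≤ cj h (Subgroup.centralizer (V : Set G)) :=
      Subgroup.map_mono (hV.conj_commute hVO (h⁻¹ * g))
    rwa [cj_cj, mul_inv_cancel_left, cj_cent] at h1
  have hBC : B ≤ Subgroup.centralizer (B : Set G) :=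
    iSup_le fun g => le_cent_comm (iSup_le fun h => hpairs h g)
  have hBe : Cfsg.IsElementaryAbelian 2 B := by
    refine ⟨Subgroup.le_centralizer_iff_isMulCommutative.1 hBC, fun x hx => ?_⟩
    refine Subgroup.iSup_induction (fun g : G => cj g V) (C := fun y => y ∈ B → y ^ 2 = 1) hx ?_ ?_ ?_ hx
    · rintro g y ⟨z, hz, rfl⟩ -
      rw [← map_pow, hV.2.2.1.2 z hz, map_one]
    · exact fun _ => one_pow 2
    · intro y z hy hz hyz
      have : ∀ w, w ∈ B → w ^ 2 = 1 := by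
        intro w hw
        have hcl : B ≤ Cfsg.omegaOne 2 B := iSup_le fun g => by
          rintro _ ⟨u, hu, rfl⟩
          exact PReduced.mem_omegaOne (hgB g ⟨u, hu, rfl⟩) (by rw [← map_pow, hV.2.2.1.2 u hu, map_one])
        exact (PReduced.omegaOne_isElementaryAbelian
          (fun a ha b hb => (Subgroup.mem_centralizer_iff.1 (hBC ha) b hb).symm)).2 w (hcl hw)
      exact this _ hyz
  have hLB : ¬ Cfsg.pResidual 2 G ≤ Subgroup.centralizer (B : Set G) :=
    fun h => hVL (h.trans (Subgroup.centralizer_le hVB))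
  haveI : (Subgroup.centralizer (B : Set G)).Normal := Subgroup.normal_centralizer
  obtain ⟨Xm, X0, hXn, hX0n, hXB, hle, hne, hX0L, hmax, hOK, hLK, hred⟩ :=
    hM.exists_moved (PLocal.elemAb_isPGroup hBe) hLB
  set K := stab Xm X0 with hK
  have hCK : Subgroup.centralizer (B : Set G) ≤ K :=
    (Subgroup.centralizer_le hXB).trans (centralizer_le_stab _ _)
  have hSK := hM.sylow_inf_le (N := K) inferInstance hLK
  -- data for a maximal elementary abelian subgroup
  have hE : ∀ A ∈ JComp.maxElem (S : Subgroup G), A ⊓ K ≤ O :=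
    fun A hA => (inf_le_inf_right K hA.1).trans hSK
  have hbA : ∀ A ∈ JComp.maxElem (S : Subgroup G),
      (Subgroup.centralizer (A : Set G)).relIndex B ≤
        K.relIndex A * (Subgroup.centralizer (B : Set G)).relIndex (A ⊓ K) := fun A hA => by
    rw [← relIndex_eq_mul (inf_le_left.trans hCK)]
    exact relIndex_le_of_maxElem hBe hBS hA
  have hchain : ∀ A ∈ JComp.maxElem (S : Subgroup G),
      (Subgroup.centralizer (B : Set G)).relIndex (A ⊓ K) ^ 3 ≤
        (Subgroup.centralizer ((A ⊓ K : Subgroup G) : Set G)).relIndex B ^ 2 := fun A hA =>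
    hV.chain hBdef (hE A hA)
      (fun r hr s hs => by
        rw [JComp.elem_comm hA.2.1 hr.1 hs.1, mul_inv_cancel_right, mul_inv_cancel]; exact one_mem _)
      (fun r hr => by rw [JComp.elem_mul_self hA.2.1 hr.1]; exact one_mem _)
  have hfin : (∀ A ∈ JComp.maxElem (S : Subgroup G),
      (Subgroup.centralizer (A : Set G)).relIndex B ≤ 1) → False := fun h => by
    refine hLB (le_top.trans (hM.normal_eq_top inferInstance (JComp.jOf_le_iff.2 fun A hA => le_cent_comm ?_)).ge)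
    exact Subgroup.relIndex_eq_one.1 (le_antisymm (h A hA) (relIndex_pos _ _))
  have hsq : ∀ A ∈ JComp.maxElem (S : Subgroup G), K.relIndex A ^ 2 ≤ (stab A X0).relIndex Xm :=
    fun A hA => hM.sq_le hBe hXB hred hA.2.1
  -- `O²(G)` stabilises `B / Xm`
  have hLBX : Cfsg.pResidual 2 G ≤ stab B Xm := by
    by_contra hL
    obtain ⟨Y, ⟨hYn, hXY, hYB, hYL⟩, hmin⟩ := exists_minimal_of_wellFoundedLT
      (fun Y : Subgroup G => Y.Normal ∧ Xm ≤ Y ∧ Y ≤ B ∧ ¬ Cfsg.pResidual 2 G ≤ stab Y Xm)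
      ⟨B, hBn, hXB, le_rfl, hL⟩
    haveI := hYn
    set X1 := Y ⊓ stab (Cfsg.pResidual 2 G) Xm with hX1
    haveI : X1.Normal := inferInstance
    have hXX1 : Xm ≤ X1 := le_inf hXY fun x hx => mem_stab.2 fun l _ => by
      rw [mul_assoc x l, mul_assoc x]
      exact mul_mem hx (hXn.conj_mem _ (Xm.inv_mem hx) l)
    have hne1 : ¬ Y ≤ X1 := fun h => hYL (le_stab_comm.2 (h.trans inf_le_right))
    have hLK1 : ¬ Cfsg.pResidual 2 G ≤ stab Y X1 := fun h => hYL
      (le_stab_of_stab (PLocal.elemAb_isPGroup (PLocal.elemAb_mono hBe hYB)) inf_le_left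
        (le_stab_comm.2 inf_le_right) h)
    have hred1 := red_of_min S Y X1 (hYB.trans hBS) inf_le_left hne1 fun Y' hY' h1 h2 => by
      by_cases h : Cfsg.pResidual 2 G ≤ stab Y' Xm
      · exact Or.inr (le_inf h2 (le_stab_comm.1 h))
      · exact Or.inl (hmin ⟨hY', hXX1.trans h1, h2.trans hYB, h⟩ h2)
    have hOK1 : O ≤ stab Y X1 := hred1 _ inferInstance fun x hx => by
      obtain ⟨k, hk⟩ := PReduced.isPGroup_pCore (G := G) 2 ⟨x, hx⟩
      exact ⟨k, by rw [show x ^ 2 ^ k = 1 from congrArg Subtype.val hk]; exact one_mem _⟩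
    have hSK1 := hM.sylow_inf_le (N := stab Y X1) inferInstance hLK1
    refine hfin fun A hA => arith_one (hbA A hA) ((hchain A hA).trans (Nat.pow_le_pow_left
      (Subgroup.relIndex_le_of_le_left (Subgroup.centralizer_le inf_le_left) Subgroup.index_ne_zero_of_finite)
      2)) ?_ (relIndex_pos _ _)
    have hy : (stab Y X1).relIndex A = K.relIndex A := by
      rw [← Subgroup.inf_relIndex_right (stab Y X1) A, ← Subgroup.inf_relIndex_right K A]
      congr 1
      exact le_antisymm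
        (le_inf (((le_inf (inf_le_right.trans hA.1) inf_le_left).trans hSK1).trans hOK) inf_le_right)
        (le_inf (((le_inf (inf_le_right.trans hA.1) inf_le_left).trans hSK).trans hOK1) inf_le_right)
    have k1 := hM.sq_le hBe hYB hred1 hA.2.1
    rw [hy] at k1
    set C := Subgroup.centralizer (A : Set G) ⊓ Y with hC
    have k2 : (stab A X0).relIndex Xm ≤ C.relIndex (C ⊔ Xm) :=
      (Subgroup.relIndex_le_of_le_left (inf_le_left.trans (centralizer_le_stab A X0))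
        Subgroup.index_ne_zero_of_finite).trans
        (Subgroup.relIndex_le_of_le_right le_sup_right Subgroup.index_ne_zero_of_finite)
    have k3 : (stab A X1).relIndex Y ≤ (C ⊔ Xm).relIndex Y :=
      Subgroup.relIndex_le_of_le_left (sup_le (inf_le_left.trans (centralizer_le_stab A X1))
        fun x hx => mem_stab.2 fun a _ => by
          rw [mul_assoc x a, mul_assoc x]
          exact mul_mem (hXX1 hx) ((inferInstance : X1.Normal).conj_mem _ (X1.inv_mem (hXX1 hx)) a))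
        Subgroup.index_ne_zero_of_finite
    calc K.relIndex A ^ 4 = K.relIndex A ^ 2 * K.relIndex A ^ 2 := by ring
      _ ≤ C.relIndex (C ⊔ Xm) * (C ⊔ Xm).relIndex Y :=
          Nat.mul_le_mul ((hsq A hA).trans k2) (k1.trans k3)
      _ = (Subgroup.centralizer (A : Set G)).relIndex Y := by
          rw [Subgroup.relIndex_mul_relIndex _ _ _ le_sup_left (sup_le inf_le_right hXY),
            Subgroup.inf_relIndex_right]
      _ ≤ _ := Subgroup.relIndex_le_of_le_right hYB Subgroup.index_ne_zero_of_finite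
  -- `B = Xm V`
  have hJB : J ≤ Subgroup.normalizer ((Xm ⊔ V : Subgroup G) : Set G) := fun j hj => cj_eq_iff.1 (by
    show (Xm ⊔ V).map _ = _
    rw [Subgroup.map_sup]
    congr 1
    · exact cj_eq_iff.2 ((Subgroup.normalizer_eq_top Xm).ge trivial)
    · exact cj_eq_iff.2 (Subgroup.centralizer_le_normalizer _ (hJV hj)))
  have hLN : Cfsg.pResidual 2 G ≤ Subgroup.normalizer ((Xm ⊔ V : Subgroup G) : Set G) := fun l hl => by
    refine cj_eq_iff.1 (Subgroup.eq_of_le_of_card_ge ?_ (card_cj l _).ge)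
    show (Xm ⊔ V).map _ ≤ _
    rw [Subgroup.map_sup]
    refine sup_le ((cj_eq_iff.2 ((Subgroup.normalizer_eq_top Xm).ge trivial)).le.trans le_sup_left) ?_
    rintro _ ⟨x, hx, rfl⟩
    show l * x * l⁻¹ ∈ _
    rw [show l * x * l⁻¹ = (l * x * l⁻¹ * x⁻¹) * x by group]
    exact Subgroup.mul_mem_sup (mem_stab.1 (hLBX hl) x (hVB hx)) hx
  have hNtop : Subgroup.normalizer ((Xm ⊔ V : Subgroup G) : Set G) = ⊤ :=
    top_le_iff.1 (hM.sup_jOf.ge.trans (sup_le hLN hJB))
  have hBXV : B = Xm ⊔ V := le_antisymm (iSup_le fun g =>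
    ((Subgroup.map_mono le_sup_right).trans (cj_eq_iff.2 (hNtop.ge (Subgroup.mem_top g))).le))
    (sup_le hXB hVB)
  have hstab : stab B Xm = ⊤ := by
    refine hM.normal_eq_top inferInstance (le_stab_comm.1 ?_)
    rw [hBXV]
    refine sup_le (fun x hx => mem_stab.2 fun j _ => ?_) ((le_cent_comm hJV).trans (centralizer_le_stab _ _))
    rw [mul_assoc x j, mul_assoc x]
    exact mul_mem hx (hXn.conj_mem _ (Xm.inv_mem hx) j)
  -- `O` centralises `Xm`, or not
  by_cases hOX : O ≤ Subgroup.centralizer (Xm : Set G)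
  · refine hfin fun A hA => ?_
    set C := Subgroup.centralizer (A : Set G) ⊓ B
    refine arith_two (hbA A hA) ((hchain A hA).trans (Nat.pow_le_pow_left ?_ 2)) ?_ (relIndex_pos _ _)
      (relIndex_pos (C ⊔ Xm) B)
    · refine Subgroup.relIndex_le_of_le_left (sup_le (inf_le_left.trans (Subgroup.centralizer_le inf_le_left))
        (le_cent_comm ((hE A hA).trans hOX))) Subgroup.index_ne_zero_of_finite
    · have k2 : (stab A X0).relIndex Xm ≤ C.relIndex (C ⊔ Xm) :=
        (Subgroup.relIndex_le_of_le_left (inf_le_left.trans (centralizer_le_stab A X0))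
          Subgroup.index_ne_zero_of_finite).trans
          (Subgroup.relIndex_le_of_le_right le_sup_right Subgroup.index_ne_zero_of_finite)
      calc K.relIndex A ^ 2 * (C ⊔ Xm).relIndex B ≤ C.relIndex (C ⊔ Xm) * (C ⊔ Xm).relIndex B :=
            Nat.mul_le_mul_right _ ((hsq A hA).trans k2)
        _ = (Subgroup.centralizer (A : Set G)).relIndex B := by
            rw [Subgroup.relIndex_mul_relIndex _ _ _ le_sup_left (sup_le inf_le_right hXB),
              Subgroup.inf_relIndex_right]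
  -- the commutator pairing
  have hbc : ∀ a ∈ B, ∀ b ∈ B, a * b = b * a := fun a ha b hb => JComp.elem_comm hBe ha hb
  set D := ⨅ g : G, (cj g V ⊓ Xm) ⊔ X0
  have hDn : D.Normal := by
    refine ⟨fun d hd x => Subgroup.mem_iInf.2 fun g => ?_⟩
    have h := conj_mem_cj x (Subgroup.mem_iInf.1 hd (x⁻¹ * g))
    rw [cj, Subgroup.map_sup] at h
    have e1 : (cj (x⁻¹ * g) V ⊓ Xm).map (MulAut.conj x).toMonoidHom = cj g V ⊓ Xm := by
      show cj x _ = _
      rw [cj_inf, cj_cj, mul_inv_cancel_left, cj_eq_iff.2 ((Subgroup.normalizer_eq_top Xm).ge trivial)]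
    rwa [e1, show X0.map (MulAut.conj x).toMonoidHom = X0 from
      cj_eq_iff.2 ((Subgroup.normalizer_eq_top X0).ge trivial)] at h
  have hDX : D ≤ X0 := by
    refine (hmax D hDn ((iInf_le _ 1).trans (sup_le inf_le_right hle))).resolve_left fun h => ?_
    refine hLK (le_top.trans (hM.normal_eq_top inferInstance (le_stab_comm.2 ?_)).ge)
    refine h.trans ((iInf_le _ 1).trans (sup_le ?_ ?_))
    · rw [cj_one]
      exact inf_le_left.trans ((le_cent_comm hJV).trans (centralizer_le_stab _ _))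
    · intro x hx
      refine mem_stab.2 fun j _ => ?_
      rw [mul_assoc x j, mul_assoc x]
      exact mul_mem hx (hX0n.conj_mem _ (X0.inv_mem hx) j)
  set Zc := Subgroup.center G ⊓ X0
  have hOV : ∀ o ∈ O, ∀ v ∈ V, o * v * o⁻¹ * v⁻¹ ∈ Zc := by
    intro o ho v hv
    have hcX : o * v * o⁻¹ * v⁻¹ ∈ X0 := hDX (Subgroup.mem_iInf.2 fun g => by
      have hv' : v ∈ Xm ⊔ cj g V := by
        have : cj g (Xm ⊔ V) = Xm ⊔ V := cj_eq_iff.2 (hNtop.ge trivial)
        rw [cj, Subgroup.map_sup, show Xm.map (MulAut.conj g).toMonoidHom = Xm from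
          cj_eq_iff.2 ((Subgroup.normalizer_eq_top Xm).ge trivial)] at this
        show v ∈ Xm ⊔ V.map (MulAut.conj g).toMonoidHom
        rw [this]
        exact Subgroup.mem_sup_right hv
      obtain ⟨x, hx, w, hw, rfl⟩ := Subgroup.mem_sup_of_normal_left.1 hv'
      have hN : o ∈ Subgroup.normalizer ((cj g V : Subgroup G) : Set G) := by
        refine cj_le_normalizer g (hOS.trans hV.2.1) ?_
        rwa [cj_eq_iff.2 ((Subgroup.normalizer_eq_top O).ge trivial)]
      have hwc : o * w * o⁻¹ * w⁻¹ ∈ cj g V ⊓ Xm :=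
        ⟨mul_mem ((Subgroup.mem_normalizer_iff.1 hN w).1 hw) ((cj g V).inv_mem hw),
          mem_stab.1 (hstab.ge (Subgroup.mem_top o)) w (hgB g hw)⟩
      have hxc : o * x * o⁻¹ * x⁻¹ ∈ X0 := mem_stab.1 (hOK ho) x hx
      have e : o * (x * w) * o⁻¹ * (x * w)⁻¹ =
          (o * x * o⁻¹ * x⁻¹) * (o * w * o⁻¹ * w⁻¹) := by
        calc o * (x * w) * o⁻¹ * (x * w)⁻¹ = (o * x * o⁻¹ * x⁻¹) * (x * (o * w * o⁻¹ * w⁻¹) * x⁻¹) := by group
          _ = _ := by rw [hbc x (hXB hx) _ (hXB hwc.2), mul_inv_cancel_right]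
      rw [e]
      exact mul_mem (Subgroup.mem_sup_right hxc) (Subgroup.mem_sup_left hwc))
    refine ⟨?_, hcX⟩
    have hcV : o * v * o⁻¹ * v⁻¹ ∈ V :=
      mul_mem ((Subgroup.mem_normalizer_iff.1 (hV.2.1 (hOS ho)) v).1 hv) (inv_mem hv)
    have htop := hM.cent_eq_top (A := Subgroup.zpowers (o * v * o⁻¹ * v⁻¹))
      (le_cent_comm (Subgroup.zpowers_le.2 (hX0L hcX)))
      (hJV.trans (Subgroup.centralizer_le (Subgroup.zpowers_le.2 hcV)))
    exact Subgroup.mem_center_iff.2 fun y =>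
      (Subgroup.mem_centralizer_iff.1 (htop.ge (Subgroup.mem_top y)) _ (Subgroup.mem_zpowers _)).symm
  have hOB : ∀ o ∈ O, ∀ b ∈ B, o * b * o⁻¹ * b⁻¹ ∈ Zc := by
    have h1 : V ≤ stab O Zc := le_stab_comm.1 fun o ho => mem_stab.2 (hOV o ho)
    have h2 : B ≤ stab O Zc := iSup_le fun g =>
      (Subgroup.map_mono h1).trans (cj_eq_iff.2 ((Subgroup.normalizer_eq_top (stab O Zc)).ge trivial)).le
    exact fun o ho => mem_stab.1 (le_stab_comm.1 h2 ho)
  -- `o ↦ [o, b]` is a homomorphism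
  let ψ : ↥B → (↥O →* G) := fun b => MonoidHom.mk' (fun o => (o : G) * b * (o : G)⁻¹ * (b : G)⁻¹)
    fun o1 o2 => by
      have hz := Subgroup.mem_center_iff.1 (hOB o2 o2.2 b b.2).1
      simp only [Subgroup.coe_mul, mul_inv_rev]
      calc (o1 : G) * o2 * b * ((o2 : G)⁻¹ * (o1 : G)⁻¹) * (b : G)⁻¹
          = (o1 : G) * ((o2 : G) * b * (o2 : G)⁻¹ * (b : G)⁻¹) * ((b : G) * (o1 : G)⁻¹ * (b : G)⁻¹) := by group
        _ = ((o2 : G) * b * (o2 : G)⁻¹ * (b : G)⁻¹) * ((o1 : G) * b * (o1 : G)⁻¹ * (b : G)⁻¹) := by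
            rw [hz]; group
        _ = _ := (hz _).symm
  obtain ⟨h, v, hv, hx0⟩ : ∃ h : G, ∃ v ∈ V, h * v * h⁻¹ * v⁻¹ ∉ X0 := by
    by_contra hcon
    push Not at hcon
    have h1 : V ≤ stab (⊤ : Subgroup G) X0 := le_stab_comm.1 fun h _ => mem_stab.2 (hcon h)
    have h2 : B ≤ stab (⊤ : Subgroup G) X0 := iSup_le fun g => (Subgroup.map_mono h1).trans
      (cj_eq_iff.2 ((Subgroup.normalizer_eq_top (stab (⊤ : Subgroup G) X0)).ge trivial)).le
    exact hLK (le_top.trans (le_stab_comm.1 (hXB.trans h2)))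
  set x := h * v * h⁻¹ * v⁻¹
  have hxX : x ∈ Xm := mem_stab.1 (hstab.ge (Subgroup.mem_top h)) v (hVB hv)
  set Zx := (ψ ⟨x, hXB hxX⟩).range with hZx
  have hZxc : ∀ z ∈ Zx, z ∈ Subgroup.center G := by
    rintro _ ⟨o, rfl⟩; exact (hOB o o.2 x (hXB hxX)).1
  haveI : Zx.Normal := ⟨fun z hz g => by
    rw [Subgroup.mem_center_iff.1 (hZxc z hz) g, mul_inv_cancel_right]; exact hz⟩
  have hXZ : O ≤ stab Xm Zx := by
    refine le_stab_comm.2 (((hmax (Xm ⊓ stab O Zx) inferInstance inf_le_left).resolve_right fun hle' =>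
      hx0 (hle' ⟨hxX, ?_⟩)).trans inf_le_right)
    refine mem_stab.2 fun o ho => ?_
    have hmem : (ψ ⟨x, hXB hxX⟩ ⟨o, ho⟩)⁻¹ ∈ Zx := Zx.inv_mem ⟨⟨o, ho⟩, rfl⟩
    simpa [ψ, mul_assoc] using hmem
  set R := O ⊓ stab B Zx
  have hsurj : ∀ o : ↥O, ∃ r : ↥O, (r : G) ∈ R ∧
      ψ ⟨v, hVB hv⟩ r = (ψ ⟨x, hXB hxX⟩ o)⁻¹ := by
    intro o
    have hco : ∀ b ∈ B, ∀ g : G, g * ((o : G)⁻¹ * b * (o : G) * b⁻¹) * g⁻¹ =
        ((o : G) * b * (o : G)⁻¹ * b⁻¹)⁻¹ := by
      intro b hb g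
      have hz := Subgroup.mem_center_iff.1 (hOB o o.2 b hb).1
      have hi : (o : G)⁻¹ * b * (o : G) * b⁻¹ = ((o : G) * b * (o : G)⁻¹ * b⁻¹)⁻¹ := by
        refine eq_inv_of_mul_eq_one_left ?_
        calc (o : G)⁻¹ * b * (o : G) * b⁻¹ * ((o : G) * b * (o : G)⁻¹ * b⁻¹)
            = (o : G)⁻¹ * b * ((o : G) * (b⁻¹ * ((o : G) * b * (o : G)⁻¹ * b⁻¹))) := by group
          _ = (o : G)⁻¹ * b * ((o : G) * (((o : G) * b * (o : G)⁻¹ * b⁻¹) * b⁻¹)) := by rw [hz]
          _ = (o : G)⁻¹ * b * (((o : G) * ((o : G) * b * (o : G)⁻¹ * b⁻¹)) * b⁻¹) := by group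
          _ = (o : G)⁻¹ * b * ((((o : G) * b * (o : G)⁻¹ * b⁻¹) * (o : G)) * b⁻¹) := by rw [hz]
          _ = (o : G)⁻¹ * (b * ((o : G) * b * (o : G)⁻¹ * b⁻¹)) * (o : G) * b⁻¹ := by group
          _ = (o : G)⁻¹ * (((o : G) * b * (o : G)⁻¹ * b⁻¹) * b) * (o : G) * b⁻¹ := by rw [hz]
          _ = b * b⁻¹ := by group
          _ = 1 := mul_inv_cancel b
      have hz' := Subgroup.mem_center_iff.1 (Subgroup.inv_mem _ (hOB o o.2 b hb).1) g
      rw [hi, hz', mul_inv_cancel_right]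
    have hr : (o : G) * (h⁻¹ * (o : G)⁻¹ * h) ∈ O := by
      have := (inferInstance : O.Normal).conj_mem _ (O.inv_mem o.2) h⁻¹
      rw [inv_inv] at this
      exact mul_mem o.2 this
    set r : ↥O := ⟨_, hr⟩
    have hval : ∀ b : ↥B, ψ b r = ((o : G) * (b : G) * (o : G)⁻¹ * (b : G)⁻¹) *
        ((o : G) * (h * b * h⁻¹) * (o : G)⁻¹ * (h * b * h⁻¹)⁻¹)⁻¹ := by
      intro b
      have hbB : h * (b : G) * h⁻¹ ∈ B := hBn.conj_mem _ b.2 h
      have e1 : (h⁻¹ * (o : G)⁻¹ * h) * (b : G) * (h⁻¹ * (o : G)⁻¹ * h)⁻¹ * (b : G)⁻¹ =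
          ((o : G) * (h * b * h⁻¹) * (o : G)⁻¹ * (h * b * h⁻¹)⁻¹)⁻¹ := by
        rw [← hco _ hbB h⁻¹]; group
      have hrs : h⁻¹ * (o : G)⁻¹ * h ∈ O := by
        have := (inferInstance : O.Normal).conj_mem _ (O.inv_mem o.2) h⁻¹
        rwa [inv_inv] at this
      have := map_mul (ψ b) o ⟨_, hrs⟩
      rw [show o * (⟨_, hrs⟩ : ↥O) = r from rfl] at this
      rw [this, ← e1]
      rfl
    refine ⟨r, ⟨hr, mem_stab.2 fun b hb => ?_⟩, ?_⟩
    · show ψ ⟨b, hb⟩ r ∈ Zx
      rw [hval]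
      set c := h * b * h⁻¹ * b⁻¹
      have hcX : c ∈ Xm := mem_stab.1 (hstab.ge (Subgroup.mem_top h)) b hb
      have e : (o : G) * (h * b * h⁻¹) * (o : G)⁻¹ * (h * b * h⁻¹)⁻¹ =
          ((o : G) * c * (o : G)⁻¹ * c⁻¹) * ((o : G) * b * (o : G)⁻¹ * b⁻¹) := by
        have hz := Subgroup.mem_center_iff.1 (hOB o o.2 b hb).1
        rw [show h * b * h⁻¹ = c * b from (inv_mul_cancel_right (h * b * h⁻¹) b).symm]
        calc (o : G) * (c * b) * (o : G)⁻¹ * (c * b)⁻¹
            = ((o : G) * c * (o : G)⁻¹) * ((o : G) * b * (o : G)⁻¹ * b⁻¹) * c⁻¹ := by group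
          _ = ((o : G) * c * (o : G)⁻¹) * (c⁻¹ * ((o : G) * b * (o : G)⁻¹ * b⁻¹)) := by rw [mul_assoc _ _ c⁻¹, hz]
          _ = _ := by group
      show ((o : G) * b * (o : G)⁻¹ * b⁻¹) * _ ∈ Zx
      rw [e, mul_inv_rev, mul_inv_cancel_left]
      exact Zx.inv_mem (mem_stab.1 (hXZ o.2) c hcX)
    · rw [hval]
      show ((o : G) * v * (o : G)⁻¹ * v⁻¹) * _ = ((o : G) * x * (o : G)⁻¹ * x⁻¹)⁻¹
      have hz := Subgroup.mem_center_iff.1 (hOB o o.2 v (hVB hv)).1
      have e : (o : G) * (h * v * h⁻¹) * (o : G)⁻¹ * (h * v * h⁻¹)⁻¹ =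
          ((o : G) * x * (o : G)⁻¹ * x⁻¹) * ((o : G) * v * (o : G)⁻¹ * v⁻¹) := by
        rw [show h * v * h⁻¹ = x * v from (inv_mul_cancel_right (h * v * h⁻¹) v).symm]
        calc (o : G) * (x * v) * (o : G)⁻¹ * (x * v)⁻¹
            = ((o : G) * x * (o : G)⁻¹) * ((o : G) * v * (o : G)⁻¹ * v⁻¹) * x⁻¹ := by group
          _ = ((o : G) * x * (o : G)⁻¹) * (x⁻¹ * ((o : G) * v * (o : G)⁻¹ * v⁻¹)) := by rw [mul_assoc _ _ x⁻¹, hz]
          _ = _ := by group
      rw [e, mul_inv_rev, mul_inv_cancel_left]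
  have hRV : ∀ r ∈ R, ∀ b ∈ V, r * b * r⁻¹ * b⁻¹ ∈ Zx := fun r hr b hb => mem_stab.1 hr.2 b (hVB hb)
  have hz2 : ∀ o : ↥O, ∀ b : ↥B, ψ b o * ψ b o = 1 := fun o b =>
    JComp.elem_mul_self hBe (hXB (hle (hOB o o.2 b b.2).2))
  have hker : ∀ (b : ↥B) (o : ↥O), ψ b o = 1 → (b : G) * o = o * b := fun b o ho => by
    have h' : (o : G) * b * (o : G)⁻¹ * (b : G)⁻¹ = 1 := ho
    rw [mul_inv_eq_one, mul_inv_eq_iff_eq_mul] at h'
    exact h'.symm
  have hcomm : ∀ r ∈ R, ∀ s ∈ R, r * s * r⁻¹ * s⁻¹ ∈ Subgroup.centralizer (V : Set G) :=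
    fun r hr s hs => Subgroup.mem_centralizer_iff.2 fun b hb => by
      refine hker ⟨b, hVB hb⟩ (⟨r, hr.1⟩ * ⟨s, hs.1⟩ * ⟨r, hr.1⟩⁻¹ * ⟨s, hs.1⟩⁻¹) ?_
      have hz : ψ ⟨b, hVB hb⟩ ⟨s, hs.1⟩ * ψ ⟨b, hVB hb⟩ ⟨r, hr.1⟩ =
          ψ ⟨b, hVB hb⟩ ⟨r, hr.1⟩ * ψ ⟨b, hVB hb⟩ ⟨s, hs.1⟩ :=
        Subgroup.mem_center_iff.1 (hOB r hr.1 b (hVB hb)).1 _
      rw [map_mul, map_mul, map_mul, map_inv, map_inv, ← hz]
      group
  have hsq2 : ∀ r ∈ R, r * r ∈ Subgroup.centralizer (V : Set G) :=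
    fun r hr => Subgroup.mem_centralizer_iff.2 fun b hb => by
      refine hker ⟨b, hVB hb⟩ (⟨r, hr.1⟩ * ⟨r, hr.1⟩) ?_
      rw [map_mul]
      exact hz2 _ _
  set f := ψ ⟨v, hVB hv⟩
  have hcard : Nat.card Zx ≤ (Subgroup.centralizer (V : Set G)).relIndex R := by
    have h1 : Zx ≤ (R.subgroupOf O).map f := by
      rintro _ ⟨o, rfl⟩
      obtain ⟨r, hr, he⟩ := hsurj o
      exact ⟨r⁻¹, (R.subgroupOf O).inv_mem hr, by rw [map_inv, he, inv_inv]⟩
    refine (Subgroup.card_le_of_le h1).trans ?_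
    rw [← Subgroup.relIndex_ker, ← Subgroup.relIndex_subgroupOf (inf_le_left : R ≤ O)]
    refine Subgroup.relIndex_le_of_le_left (fun o ho => ?_) Subgroup.index_ne_zero_of_finite
    show (o : G) * v * (o : G)⁻¹ * v⁻¹ = 1
    rw [show (o : G) * v = v * (o : G) from (Subgroup.mem_centralizer_iff.1 ho v hv).symm,
      mul_inv_cancel_right, mul_inv_cancel]
  have hnR : ¬ R ≤ Subgroup.centralizer (V : Set G) := by
    intro hle'
    rw [Subgroup.relIndex_eq_one.2 hle'] at hcard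
    refine hOX ?_
    have hbot : Zx = ⊥ := Subgroup.eq_bot_of_card_le _ hcard
    intro o ho
    refine Subgroup.mem_centralizer_iff.2 fun y hy => ?_
    have h := mem_stab.1 (hXZ ho) y hy
    rw [hbot, Subgroup.mem_bot, mul_inv_eq_one, mul_inv_eq_iff_eq_mul] at h
    exact h.symm
  obtain ⟨-, m2⟩ := hV.2.2.2 R (inf_le_left.trans hOS) hcomm hsq2 hnR
  have hle' : ⁅V, R⁆ ≤ Zx := by
    rw [Subgroup.commutator_comm, Subgroup.commutator_le]
    exact hRV
  exact absurd ((Subgroup.card_le_of_le hle').trans hcard) (not_le.2 m2)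

end Min

end

end Cfsg.Agent.TwoFactor
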