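import Cfsg.Agent.Lib.TwoFactor.Reduce
import Cfsg.Agent.Lib.Involution.BaerSuzuki

/-!
The witness outside `O₂(G)`.

Main results (namespace `Cfsg.Agent.TwoFactor`):
* `Min.wit_le_core`: a witness of a minimal counterexample lies in `O₂(G)`.
-/

set_option autoImplicit false
set_option linter.unusedSectionVars false
set_option linter.style.haveILetI false

namespace Cfsg.Agent.TwoFactor

open SFourClosed AlperinFamily

universe u

section
variable {G : Type u} [Group G] [Finite G]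

/-- Two involutions, one commuting with its conjugate by the other, generate a 2-group. -/
theorem isPGroup_pair {a b : G} (ha : a * a = 1) (hb : b * b = 1)
    (h : a * (b * a * b⁻¹) = b * a * b⁻¹ * a) : IsPGroup 2 ↥(Subgroup.closure ({a, b} : Set G)) := by
  haveI : Fact (Nat.Prime 2) := ⟨Nat.prime_two⟩
  have hai : a⁻¹ = a := inv_eq_of_mul_eq_one_right ha
  have hbi : b⁻¹ = b := inv_eq_of_mul_eq_one_right hb
  rw [hbi] at h
  have h4 : (a * b) ^ 2 ^ 2 = 1 := by
    calc (a * b) ^ 2 ^ 2 = (a * (b * a * b)) * (a * (b * a * b)) := by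
          rw [show 2 ^ 2 = 4 from rfl]; simp [pow_succ, mul_assoc]
      _ = (a * (b * a * b)) * ((b * a * b) * a) := by rw [h]
      _ = a * (b * (a * (b * b) * a) * b) * a := by simp [mul_assoc]
      _ = 1 := by rw [hb, mul_one, ha, mul_one, hb, mul_one, ha]
  have ha2 : a ^ 2 ^ 1 = 1 := by rw [pow_one, pow_two, ha]
  have hp : ∀ {x : G} {k : ℕ}, x ^ 2 ^ k = 1 → IsPGroup 2 ↥(Subgroup.zpowers x) := fun {x k} hx => by
    obtain ⟨i, -, hi⟩ := (Nat.dvd_prime_pow Nat.prime_two).1 (orderOf_dvd_of_pow_eq_one hx)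
    exact IsPGroup.of_card (n := i) (by rw [Nat.card_zpowers, hi])
  have hn : Subgroup.zpowers a ≤ Subgroup.normalizer (Subgroup.zpowers (a * b) : Set G) := by
    rw [Subgroup.zpowers_le, Subgroup.mem_normalizer_iff_map_conj_eq, MonoidHom.map_zpowers]
    show Subgroup.zpowers (a * (a * b) * a⁻¹) = _
    rw [← Subgroup.zpowers_inv (g := a * b), mul_inv_rev, hbi, ← mul_assoc a a b, ha, one_mul]
  refine ((hp h4).to_sup_of_normal_left' (hp ha2) hn).to_le ((Subgroup.closure_le _).2 ?_)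
  rintro x (rfl | rfl)
  · exact Subgroup.mem_sup_right (Subgroup.mem_zpowers _)
  · have h' : a * (a * x) ∈ Subgroup.zpowers (a * x) ⊔ Subgroup.zpowers a :=
      mul_mem (Subgroup.mem_sup_right (Subgroup.mem_zpowers _)) (Subgroup.mem_sup_left (Subgroup.mem_zpowers _))
    rwa [← mul_assoc, ha, one_mul] at h'

namespace Min

variable {S : Sylow 2 G} (hM : Min S)
include hM

theorem wit_le_core {V : Subgroup G} (hV : Wit (S : Subgroup G) V)
    (hVJ : V ≤ Cfsg.thompsonSubgroupOf 2 (S : Subgroup G)) (hVX : V ≤ xh (S : Subgroup G))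
    (hJh : hatJ (S : Subgroup G) ≤ Subgroup.centralizer (V : Set G))
    (hVL : ¬ Cfsg.pResidual 2 G ≤ Subgroup.centralizer (V : Set G)) : V ≤ Cfsg.pCore 2 G := by
  haveI : Fact (Nat.Prime 2) := ⟨Nat.prime_two⟩
  set O := Cfsg.pCore 2 G with hOdef
  haveI : O.Normal := PReduced.pCore_normal 2 G
  have hOS : O ≤ (S : Subgroup G) := PReduced.pCore_le_sylow S
  have hOp : IsPGroup 2 O := PReduced.isPGroup_pCore 2
  by_contra hnot
  obtain ⟨a, haV, haO⟩ := SetLike.not_le_iff_exists.1 hnot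
  have haa := JComp.elem_mul_self hV.2.2.1 haV
  -- two generations
  have hpair : ∀ g : G, O ⊔ hatJ (S : Subgroup G) ⊔ cj g V ≠ ⊤ →
      IsPGroup 2 ↥(Subgroup.closure ({a, g * a * g⁻¹} : Set G)) := by
    intro g hne
    refine isPGroup_pair haa (by rw [show g * a * g⁻¹ * (g * a * g⁻¹) = g * (a * a) * g⁻¹ by group, haa,
      mul_one, mul_inv_cancel]) ?_
    have hb : g * a * g⁻¹ ∈ O ⊔ hatJ (S : Subgroup G) ⊔ cj g V := Subgroup.mem_sup_right (conj_mem_cj g haV)
    exact Subgroup.mem_centralizer_iff.1 (hM.commute_of_proper hVJ hVX hne (le_sup_left.trans le_sup_left)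
      (le_sup_right.trans le_sup_left) hb (conj_mem_cj _ haV)) a haV
  obtain ⟨g, hg⟩ : ∃ g : G, ¬ IsPGroup 2 ↥(Subgroup.closure ({a, g * a * g⁻¹} : Set G)) := by
    by_contra hcon
    push Not at hcon
    exact haO ((PReduced.le_pCore Subgroup.normalClosure_normal
      (Involution.baer_suzuki_element a hcon)) (Subgroup.subset_normalClosure rfl))
  have htop : ∀ k : G, (k = g ∨ k = g⁻¹) → O ⊔ hatJ (S : Subgroup G) ⊔ cj k V = ⊤ := by
    intro k hk
    by_contra hne
    rcases hk with rfl | rfl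
    · exact hg (hpair k hne)
    · refine hg ?_
      have h0 := hpair g⁻¹ hne
      rw [inv_inv] at h0
      refine (h0.map (MulAut.conj g).toMonoidHom).to_le (le_of_eq ?_)
      rw [MonoidHom.map_closure, Set.image_pair, Set.pair_comm]
      simp [mul_assoc]
  have htop' : ∀ k : G, (k = g ∨ k = g⁻¹) → O ⊔ cj k (hatJ (S : Subgroup G)) ⊔ V = ⊤ := by
    intro k hk
    have h := congrArg (cj k) (htop k⁻¹ (hk.elim (fun e => Or.inr (by rw [e])) fun e => Or.inl (by rw [e, inv_inv])))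
    rw [cj, Subgroup.map_sup, Subgroup.map_sup, show cj k (⊤ : Subgroup G) = ⊤ from
      Subgroup.map_top_of_surjective _ (MulAut.conj k).surjective] at h
    rw [show (cj k⁻¹ V).map (MulAut.conj k).toMonoidHom = V by
        show cj k (cj k⁻¹ V) = V
        rw [cj_cj, mul_inv_cancel, cj_one]] at h
    rwa [show O.map (MulAut.conj k).toMonoidHom = O from
      cj_eq_iff.2 ((Subgroup.normalizer_eq_top O).ge trivial)] at h
  -- a moved factor inside `O`
  have hLO : ¬ Cfsg.pResidual 2 G ≤ Subgroup.centralizer (O : Set G) := by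
    intro h
    refine hVL fun l hl => ?_
    have hL1 : Cfsg.pResidual 2 G ≤ (⊥ : Subgroup G) := (Subgroup.closure_le _).2 fun c hc => by
      obtain ⟨k, hk⟩ := hOp ⟨c, hM.hchar (h (Subgroup.subset_closure hc))⟩
      have hk' : c ^ 2 ^ k = 1 := congrArg Subtype.val hk
      exact orderOf_eq_one_iff.1 (Nat.eq_one_of_dvd_coprimes (Nat.Coprime.pow_right k hc) dvd_rfl
        (orderOf_dvd_of_pow_eq_one hk'))
    rw [Subgroup.mem_bot.1 (hL1 hl)]
    exact one_mem _
  obtain ⟨Xm, X0, hXn, hX0n, hXO, hle, hne, -, hmax, hOK, hLK, hred⟩ := hM.exists_moved hOp hLO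
  have hXp : IsPGroup 2 Xm := hOp.to_le hXO
  set F0 := (frattini ↥Xm).map Xm.subtype with hF0
  have hF0n : F0.Normal := Subgroup.normalizer_eq_top_iff.1 (top_le_iff.1
    ((Subgroup.normalizer_eq_top Xm).ge.trans (Cores.normalizer_le_normalizer_map (frattini ↥Xm))))
  have hF : F0 ≤ X0 := by
    refine (hmax F0 hF0n (Subgroup.map_subtype_le _)).resolve_left fun h => hne ?_
    have htop : (⊥ : Subgroup ↥Xm) ⊔ frattini ↥Xm = ⊤ := by
      rw [bot_sup_eq, eq_top_iff]
      intro x _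
      obtain ⟨y, hy, he⟩ := h x.2
      rwa [← Subtype.ext he]
    have hbot : (⊥ : Subgroup ↥Xm) = ⊤ := PGroup.eq_top_of_sup_frattini htop
    intro x hx
    have h1 : (⟨x, hx⟩ : ↥Xm) = 1 := Subgroup.mem_bot.1 (hbot.ge trivial)
    rw [show x = 1 from congrArg Subtype.val h1]
    exact one_mem _
  have hcX : ∀ x ∈ Xm, ∀ y ∈ Xm, x * y * x⁻¹ * y⁻¹ ∈ X0 := fun x hx y hy =>
    hF ⟨_, PGroup.commutatorElement_mem_frattini hXp ⟨x, hx⟩ ⟨y, hy⟩, rfl⟩
  have hsX : ∀ x ∈ Xm, x * x ∈ X0 := fun x hx =>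
    hF ⟨_, PGroup.pow_mem_frattini hXp ⟨x, hx⟩, by simp [pow_two]⟩
  obtain ⟨hc1, hc2⟩ := stab_comm_mem (X := Xm) (X0 := X0) hV.2.2.1
  have hd := (sec_bounds hM.hfree hM.hc Xm X0 hXp hcX hsX hred (R := V) hc1 hc2).2 (V ⊓ Xm) inf_le_right
    (fun r hr x hx => ⟨by
      have hx' : x ∈ Subgroup.normalizer (V : Set G) := hV.2.1 (hOS (hXO hx))
      rw [mul_assoc r, mul_assoc r]
      exact mul_mem hr ((Subgroup.mem_normalizer_iff.1 hx' r⁻¹).1 (V.inv_mem hr)),
      mul_mem (hXn.conj_mem x hx r) (Xm.inv_mem hx)⟩)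
  set K := stab Xm X0
  set v := O.relIndex V with hv
  have hKv : K.relIndex V = v := by
    rw [hv, ← Subgroup.inf_relIndex_right K V, ← Subgroup.inf_relIndex_right O V]
    congr 1
    exact le_antisymm (le_inf (le_trans (le_inf (inf_le_right.trans hV.1) inf_le_left)
      (hM.sylow_inf_le inferInstance hLK)) inf_le_right) (inf_le_inf_right _ hOK)
  rw [hKv] at hd
  set d := X0.relIndex (V ⊓ Xm)
  let r : G → ℕ := fun k => (Subgroup.centralizer (V : Set G)).relIndex (cj k (V ⊓ O))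
  have hdr : d ≤ r g := by
    have hsub : Subgroup.centralizer (V : Set G) ⊓ cj g (V ⊓ Xm) ≤ X0 := by
      rintro u ⟨huV, hu⟩
      obtain ⟨hugV, huX⟩ : u ∈ cj g V ∧ u ∈ Xm := by
        rw [cj_inf] at hu
        exact ⟨hu.1, by rw [← cj_eq_iff.2 ((Subgroup.normalizer_eq_top Xm).ge (Subgroup.mem_top g))]; exact hu.2⟩
      have hst : stab (Subgroup.zpowers u) X0 = ⊤ := by
        refine top_le_iff.1 ((htop' g (Or.inl rfl)).ge.trans (sup_le (sup_le ?_ ?_) ?_))
        · exact fun o ho => mem_stab.2 fun y hy => mem_stab.1 (hOK ho) y (Subgroup.zpowers_le.2 huX hy)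
        · refine le_trans ?_ (centralizer_le_stab _ _)
          refine le_trans ((Subgroup.map_mono hJh).trans (cj_cent g V).le) (Subgroup.centralizer_le ?_)
          exact Subgroup.zpowers_le.2 hugV
        · exact (le_cent_comm (Subgroup.zpowers_le.2 huV)).trans (centralizer_le_stab _ _)
      refine (hmax (Xm ⊓ stab (⊤ : Subgroup G) X0) inferInstance inf_le_left).resolve_left (fun h => hLK ?_) ?_
      · exact le_top.trans (le_stab_comm.2 (h.trans inf_le_right))
      · exact ⟨huX, le_stab_comm.2 hst.ge (Subgroup.mem_zpowers u)⟩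
    have h1 := relIndex_le_of_inf_le hsub
    have h2 : X0.relIndex (cj g (V ⊓ Xm)) = d := by
      conv_lhs => rw [← cj_eq_iff.2 ((Subgroup.normalizer_eq_top X0).ge (Subgroup.mem_top g))]
      exact relIndex_cj g X0 (V ⊓ Xm)
    rw [h2] at h1
    exact h1.trans (Subgroup.relIndex_le_of_le_right (Subgroup.map_mono (inf_le_inf_left V hXO))
      Subgroup.index_ne_zero_of_finite)
  have hmar : ∀ k : G, 2 ≤ r k → r k ^ 3 < (v * r k⁻¹) ^ 2 := by
    intro k hk
    have hRO : cj k (V ⊓ O) ≤ O :=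
      (Subgroup.map_mono inf_le_right).trans (cj_eq_iff.2 ((Subgroup.normalizer_eq_top O).ge trivial)).le
    have hRe : Cfsg.IsElementaryAbelian 2 (cj k (V ⊓ O) : Subgroup G) :=
      (PLocal.elemAb_map_iff_of_injOn (MulAut.conj k).injective.injOn le_rfl).2
        (PLocal.elemAb_mono hV.2.2.1 inf_le_left)
    obtain ⟨m1, -⟩ := hV.2.2.2 _ (hRO.trans hOS)
      (fun x hx y hy => by rw [JComp.elem_comm hRe hx hy, mul_inv_cancel_right, mul_inv_cancel]; exact one_mem _)
      (fun x hx => by rw [JComp.elem_mul_self hRe hx]; exact one_mem _)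
      (fun h => by rw [show r k = 1 from Subgroup.relIndex_eq_one.2 h] at hk; omega)
    refine lt_of_lt_of_le m1 (Nat.pow_le_pow_left ((relIndex_le_mul _ O V).trans (Nat.mul_le_mul_left _ ?_)) 2)
    have e := relIndex_cj k (Subgroup.centralizer (V : Set G)) (cj k⁻¹ (V ⊓ O))
    rw [cj_cj, mul_inv_cancel, cj_one] at e
    show _ ≤ (Subgroup.centralizer (V : Set G)).relIndex (cj k⁻¹ (V ⊓ O))
    rw [← e, cj_cent]
    exact Subgroup.relIndex_le_of_le_left (Subgroup.centralizer_le (Subgroup.map_mono inf_le_left))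
      Subgroup.index_ne_zero_of_finite
  have hv2 : 2 ≤ v := by
    have h0 := relIndex_pos O V
    have h1 : v ≠ 1 := mt Subgroup.relIndex_eq_one.1 hnot
    omega
  have hr : v ^ 2 ≤ r g := hd.trans hdr
  have hr4 : 4 ≤ r g := le_trans (le_trans (by norm_num : 4 ≤ 2 ^ 2) (Nat.pow_le_pow_left hv2 2)) hr
  have e1 := hmar g (by omega)
  rw [mul_pow] at e1
  have e2 : r g ^ 3 < r g * r g⁻¹ ^ 2 := lt_of_lt_of_le e1 (Nat.mul_le_mul_right _ hr)
  have e3 : r g ^ 2 < r g⁻¹ ^ 2 := by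
    rw [pow_succ' _ 2] at e2
    exact Nat.lt_of_mul_lt_mul_left e2
  have hlt : r g < r g⁻¹ := lt_of_pow_lt_pow_left₀ 2 (Nat.zero_le _) e3
  have e4 := hmar g⁻¹ (by omega)
  rw [inv_inv, mul_pow] at e4
  have e5 : r g⁻¹ ^ 3 < r g ^ 3 := by
    refine lt_of_lt_of_le e4 ?_
    rw [pow_succ' _ 2]
    exact Nat.mul_le_mul_right _ hr
  exact absurd (lt_of_pow_lt_pow_left₀ 3 (Nat.zero_le _) e5) (by omega)

end Min

end

end Cfsg.Agent.TwoFactor
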