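import Cfsg.Agent.Lib.TwoFactor.JHat

/-!
Factorizations with the centre of a Sylow 2-subgroup.

Main results (namespace `Cfsg.Agent.TwoFactor`):
* `fact_center`: `G = C(Z(S)) N(J(S)) = C(Z(S)) N(Ĵ(S))` in the constrained case;
* `fact_of_q`: conjugates centralised by `J(S)` give a factorization, in a subgroup containing `S`.
-/

set_option autoImplicit false
set_option linter.unusedSectionVars false
set_option linter.style.haveILetI false

namespace Cfsg.Agent.TwoFactor

open SFourClosed AlperinFamily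

universe u

section
variable {G : Type u} [Group G] [Finite G]

/-- `C(Ω₁(V))` is a 2-group modulo `C(V)` for an abelian 2-group `V`. -/
theorem pMod_centralizer_omega {V : Subgroup G} [V.Normal] (hV : IsPGroup 2 V)
    (hc : ∀ a ∈ V, ∀ b ∈ V, a * b = b * a) :
    PReduced.pMod 2 (Subgroup.centralizer (V : Set G))
      (Subgroup.centralizer (Cfsg.omegaOne 2 V : Set G)) := by
  haveI : Fact (Nat.Prime 2) := ⟨Nat.prime_two⟩
  obtain ⟨n, hn⟩ := IsPGroup.iff_card.1 hV
  intro c hcW
  have key : ∀ k : ℕ, ∀ x ∈ V, x ^ 2 ^ (k + 1) = 1 → c ^ 2 ^ k * x * (c ^ 2 ^ k)⁻¹ = x := by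
    intro k
    induction k with
    | zero =>
      intro x hx h1
      rw [pow_zero, pow_one, ← Subgroup.mem_centralizer_iff.1 hcW x (PReduced.mem_omegaOne hx h1),
        mul_inv_cancel_right]
    | succ k ih =>
      intro x hx h1
      set d := c ^ 2 ^ k with hd
      have hd2 : c ^ 2 ^ (k + 1) = d * d := by rw [hd, ← pow_add, pow_succ, mul_two]
      have hxd : d * x * d⁻¹ ∈ V := (inferInstance : V.Normal).conj_mem x hx d
      have hsq : d * (x * x) * d⁻¹ = x * x := ih (x * x) (mul_mem hx hx) (by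
        rw [← pow_two, ← pow_mul, ← pow_succ']; exact h1)
      have he : (d * x * d⁻¹ * x⁻¹) * (d * x * d⁻¹ * x⁻¹) = 1 := by
        calc (d * x * d⁻¹ * x⁻¹) * (d * x * d⁻¹ * x⁻¹)
            = (d * x * d⁻¹) * (x⁻¹ * (d * x * d⁻¹)) * x⁻¹ := by group
          _ = (d * x * d⁻¹) * ((d * x * d⁻¹) * x⁻¹) * x⁻¹ := by rw [hc _ (inv_mem hx) _ hxd]
          _ = (d * (x * x) * d⁻¹) * (x⁻¹ * x⁻¹) := by group
          _ = 1 := by rw [hsq]; group
      have hfix := ih (d * x * d⁻¹ * x⁻¹) (mul_mem hxd (inv_mem hx))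
        (by rw [pow_succ', pow_mul, pow_two, he, one_pow])
      rw [hd2]
      calc d * d * x * (d * d)⁻¹ = (d * (d * x * d⁻¹ * x⁻¹) * d⁻¹) * (d * x * d⁻¹) := by group
        _ = (d * x * d⁻¹ * x⁻¹) * (d * x * d⁻¹ * x⁻¹) * x := by rw [hfix]; group
        _ = x := by rw [he, one_mul]
  refine ⟨n, Subgroup.mem_centralizer_iff.2 fun x hx => ?_⟩
  have hx1 : x ^ 2 ^ (n + 1) = 1 := by
    have h0 : (⟨x, hx⟩ : ↥V) ^ Nat.card V = 1 := pow_card_eq_one'
    rw [hn] at h0
    have h1 : x ^ 2 ^ n = 1 := congrArg Subtype.val h0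
    rw [pow_succ, pow_mul, h1, one_pow]
  exact (mul_inv_eq_iff_eq_mul.1 (key n x hx hx1)).symm

/-- The factorizations with the centre. -/
theorem fact_center (hchar : Subgroup.centralizer (Cfsg.pCore 2 G : Set G) ≤ Cfsg.pCore 2 G)
    (hfree : ¬ Cfsg.Involves (Equiv.Perm (Fin 4)) G)
    (hc : Cfsg.IsCompositionKGroupWith Cfsg.IsSuzukiOrPSL2OddPowerThree G) (S : Sylow 2 G) (g : G) :
    (∃ c ∈ Subgroup.centralizer
        ((((S : Subgroup G) ⊓ Subgroup.centralizer ((S : Subgroup G) : Set G)) : Subgroup G) : Set G),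
      ∃ n ∈ Subgroup.normalizer ((Cfsg.thompsonSubgroupOf 2 (S : Subgroup G)) : Set G), g = c * n) ∧
    (∃ c ∈ Subgroup.centralizer
        ((((S : Subgroup G) ⊓ Subgroup.centralizer ((S : Subgroup G) : Set G)) : Subgroup G) : Set G),
      ∃ n ∈ Subgroup.normalizer ((hatJ (S : Subgroup G)) : Set G), g = c * n) := by
  haveI : Fact (Nat.Prime 2) := ⟨Nat.prime_two⟩
  set O := Cfsg.pCore 2 G
  haveI : O.Normal := PReduced.pCore_normal 2 G
  have hOS : O ≤ (S : Subgroup G) := PReduced.pCore_le_sylow S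
  set Z := (S : Subgroup G) ⊓ Subgroup.centralizer ((S : Subgroup G) : Set G)
  set V := Subgroup.normalClosure (Z : Set G) with hVdef
  have hZV : Z ≤ V := Subgroup.subset_normalClosure
  have hVCO : V ≤ Subgroup.centralizer (O : Set G) :=
    Subgroup.normalClosure_le_normal fun z hz => Subgroup.centralizer_le hOS hz.2
  have hVO : V ≤ O := hVCO.trans hchar
  have hVc : ∀ a ∈ V, ∀ b ∈ V, a * b = b * a := fun a ha b hb =>
    (Subgroup.mem_centralizer_iff.1 (hVCO ha) b (hVO hb)).symm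
  have hVp : IsPGroup 2 V := (PReduced.isPGroup_pCore 2).to_le hVO
  set W := Cfsg.omegaOne 2 V
  haveI hWn : W.Normal := PReduced.omegaOne_normal Subgroup.normalClosure_normal 2
  have hWe : Cfsg.IsElementaryAbelian 2 W := PReduced.omegaOne_isElementaryAbelian hVc
  have hWV : W ≤ V := PReduced.omegaOne_le 2 V
  have hWS : W ≤ (S : Subgroup G) := hWV.trans (hVO.trans hOS)
  -- the action on `V` is reduced
  have hredV : ∀ P : Subgroup G, P.Normal → PReduced.pMod 2 (Subgroup.centralizer (V : Set G)) P →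
      P ≤ Subgroup.centralizer (V : Set G) := by
    intro P hP hmod
    haveI := hP
    haveI : (Subgroup.centralizer (V : Set G)).Normal := Subgroup.normal_centralizer
    set P1 := P ⊔ Subgroup.centralizer (V : Set G)
    haveI : P1.Normal := inferInstance
    have hdec : P1 = Subgroup.centralizer (V : Set G) ⊔ ((S : Subgroup G) ⊓ P1) :=
      PReduced.eq_sup_sylow_inf_of_pMod S le_sup_right (PReduced.pMod_sup hmod)
    have h1 : P1 ≤ Subgroup.centralizer (Z : Set G) := by
      rw [hdec]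
      exact sup_le (Subgroup.centralizer_le hZV) (inf_le_left.trans (le_cent_comm inf_le_right))
    haveI : (Subgroup.centralizer (P1 : Set G)).Normal := Subgroup.normal_centralizer
    exact le_sup_left.trans (le_cent_comm (Subgroup.normalClosure_le_normal (le_cent_comm h1)))
  have hCWV : Subgroup.centralizer (W : Set G) = Subgroup.centralizer (V : Set G) :=
    le_antisymm (hredV _ Subgroup.normal_centralizer (pMod_centralizer_omega hVp hVc))
      (Subgroup.centralizer_le hWV)
  have hred : ∀ P : Subgroup G, P.Normal → PReduced.pMod 2 (stab W ⊥) P → P ≤ stab W ⊥ := by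
    rw [stab_bot, hCWV]; exact hredV
  have hcX : ∀ x ∈ W, ∀ y ∈ W, x * y * x⁻¹ * y⁻¹ ∈ (⊥ : Subgroup G) := fun x hx y hy => by
    rw [JComp.elem_comm hWe hx hy, mul_inv_cancel_right, mul_inv_cancel]; exact one_mem _
  have hsX : ∀ x ∈ W, x * x ∈ (⊥ : Subgroup G) := fun x hx => by
    rw [JComp.elem_mul_self hWe hx]; exact one_mem _
  have hbd : ∀ R : Subgroup G,
      (∀ r ∈ R, ∀ s ∈ R, r * s * r⁻¹ * s⁻¹ ∈ Subgroup.centralizer (W : Set G)) →
      (∀ r ∈ R, r * r ∈ Subgroup.centralizer (W : Set G)) →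
      (Subgroup.centralizer (W : Set G)).relIndex R ^ 2 ≤ (Subgroup.centralizer (R : Set G)).relIndex W ∧
      (Subgroup.centralizer (W : Set G)).relIndex R ^ 2 ≤ Nat.card ↥⁅W, R⁆ := by
    intro R h1 h2
    obtain ⟨k1, k2⟩ := sec_bounds hfree hc W ⊥ (PLocal.elemAb_isPGroup hWe) hcX hsX hred (R := R)
      (by rw [stab_bot]; exact h1) (by rw [stab_bot]; exact h2)
    rw [stab_bot] at k1 k2
    rw [stab_bot] at k1
    refine ⟨k1, (k2 ⁅W, R⁆ (Subgroup.commutator_le_left W R) fun r hr x hx => ?_).trans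
      (Subgroup.relIndex_bot_left _).le⟩
    rw [Subgroup.commutator_comm]
    exact Subgroup.commutator_mem_commutator hr hx
  have hJC : Cfsg.thompsonSubgroupOf 2 (S : Subgroup G) ≤ Subgroup.centralizer (W : Set G) :=
    JComp.jOf_le_iff.2 fun A hA => by
      have h1 := (hbd A
        (fun r hr s hs => by
          rw [JComp.elem_comm hA.2.1 hr hs, mul_inv_cancel_right, mul_inv_cancel]; exact one_mem _)
        (fun r hr => by rw [JComp.elem_mul_self hA.2.1 hr]; exact one_mem _)).1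
      have h2 := h1.trans (relIndex_le_of_maxElem hWe hWS hA)
      refine Subgroup.relIndex_eq_one.1 ?_
      have hp := relIndex_pos (Subgroup.centralizer (W : Set G)) A
      rw [pow_two] at h2
      exact le_antisymm (Nat.le_of_mul_le_mul_left (h2.trans (mul_one _).ge) hp) hp
  set C := Subgroup.centralizer (V : Set G)
  haveI : C.Normal := Subgroup.normal_centralizer
  have hJle : Cfsg.thompsonSubgroupOf 2 (S : Subgroup G) ≤ (S : Subgroup G) ⊓ C :=
    le_inf (JComp.jOf_le _) (hCWV ▸ hJC)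
  -- E-groups above `J(S)` centralise `W`
  have hUC : ∀ U : Subgroup G, U ≤ (S : Subgroup G) → Cfsg.IsEGroup ↥U →
      Cfsg.thompsonSubgroupOf 2 (S : Subgroup G) ≤ U → U ≤ C := by
    intro U _ hE hJU
    have hWU : W ≤ U := (le_jOf_of_cent hWe hWS hJC).trans hJU
    rw [← hCWV]
    refine (eg_iff U).1 hE W ⟨hWU, le_top.trans (Subgroup.normalizer_eq_top W).ge, hWe,
      fun R _ h1 h2 hn => ?_⟩
    obtain ⟨k1, k2⟩ := hbd R h1 h2
    have hr2 : 2 ≤ (Subgroup.centralizer (W : Set G)).relIndex R := by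
      have h0 := relIndex_pos (Subgroup.centralizer (W : Set G)) R
      have h1' : (Subgroup.centralizer (W : Set G)).relIndex R ≠ 1 := mt Subgroup.relIndex_eq_one.1 hn
      omega
    refine ⟨?_, lt_of_lt_of_le ?_ k2⟩
    · refine lt_of_lt_of_le ?_ (Nat.pow_le_pow_left k1 2)
      rw [← pow_mul]
      exact Nat.pow_lt_pow_right hr2 (by norm_num)
    · calc (Subgroup.centralizer (W : Set G)).relIndex R
            = (Subgroup.centralizer (W : Set G)).relIndex R ^ 1 := (pow_one _).symm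
        _ < _ := Nat.pow_lt_pow_right hr2 (by norm_num)
  obtain ⟨a, ha, c, hc', rfl⟩ := PReduced.frattini_sylow_inf_mul S C g
  have hca : a * c * a⁻¹ ∈ Subgroup.centralizer (Z : Set G) :=
    Subgroup.centralizer_le hZV ((inferInstance : C.Normal).conj_mem c hc' a)
  refine ⟨⟨_, hca, a, ?_, by group⟩, ⟨_, hca, a, ?_, by group⟩⟩
  · rw [← JComp.jOf_eq_of_between hJle inf_le_left]
    exact PLocal.normalizer_le_normalizer_thompsonSubgroupOf _ ha
  · have hJa : cj a (Cfsg.thompsonSubgroupOf 2 (S : Subgroup G)) =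
        Cfsg.thompsonSubgroupOf 2 (S : Subgroup G) := by
      rw [cj_eq_iff, ← JComp.jOf_eq_of_between hJle inf_le_left]
      exact PLocal.normalizer_le_normalizer_thompsonSubgroupOf _ ha
    refine cj_eq_iff.1 (Subgroup.eq_of_le_of_card_ge ?_ (card_cj a _).ge)
    rw [cj, Subgroup.map_le_iff_le_comap, hatJ_le_iff]
    intro U hU hE hJU
    rw [← Subgroup.map_le_iff_le_comap]
    refine le_hatJ ?_ ((eg_map _ (MulAut.conj a).injective U).2 hE) (hJa.ge.trans (Subgroup.map_mono hJU))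
    exact ((Subgroup.map_mono (le_inf hU (hUC U hU hE hJU))).trans (cj_eq_iff.2 ha).le).trans inf_le_left

/-- A factorization from centralised conjugates, inside a subgroup containing `S`. -/
theorem fact_of_q (S : Sylow 2 G) {H : Subgroup G} (hSH : (S : Subgroup G) ≤ H)
    (hq : ∀ h ∈ H, Cfsg.thompsonSubgroupOf 2 (S : Subgroup G) ≤
      Subgroup.centralizer ((cj h (xh (S : Subgroup G)) : Subgroup G) : Set G)) :
    ∀ h ∈ H, ∃ n ∈ H ⊓ Subgroup.normalizer (Cfsg.thompsonSubgroupOf 2 (S : Subgroup G) : Set G),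
      ∃ c ∈ H ⊓ Subgroup.centralizer (xh (S : Subgroup G) : Set G), h = n * c := by
  haveI : Fact (Nat.Prime 2) := ⟨Nat.prime_two⟩
  have hXH : xh (S : Subgroup G) ≤ H := ((xh_le _).trans (hatJ_le _)).trans hSH
  set B := Subgroup.normalClosure (((xh (S : Subgroup G)).subgroupOf H : Subgroup ↥H) : Set ↥H)
  haveI : (Subgroup.centralizer (B : Set ↥H)).Normal := Subgroup.normal_centralizer
  have hJB : (Cfsg.thompsonSubgroupOf 2 (S : Subgroup G)).subgroupOf H ≤
      Subgroup.centralizer (B : Set ↥H) := by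
    refine le_cent_comm ?_
    refine (Subgroup.closure_le _).2 fun y hy => ?_
    obtain ⟨z, hz, hzy⟩ := Group.mem_conjugatesOfSet_iff.1 hy
    obtain ⟨k, rfl⟩ := isConj_iff.1 hzy
    refine Subgroup.mem_centralizer_iff.2 fun j hj => Subtype.ext ?_
    exact (Subgroup.mem_centralizer_iff.1 (hq (k : G) k.2 hj) _ (conj_mem_cj (k : G) hz)).symm
  intro h hh
  obtain ⟨a, ha, c, hc, e⟩ := PReduced.frattini_sylow_inf_mul (S.subtype hSH) (Subgroup.centralizer (B : Set ↥H)) ⟨h, hh⟩
  refine ⟨(a : G), ⟨a.2, ?_⟩, (c : G), ⟨c.2, ?_⟩, congrArg Subtype.val e⟩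
  · set T := ((S.subtype hSH : Sylow 2 ↥H) : Subgroup ↥H) ⊓ Subgroup.centralizer (B : Set ↥H)
    have hmem : (a : G) ∈ Subgroup.normalizer (T.map H.subtype : Set G) :=
      Subgroup.le_normalizer_map H.subtype (Subgroup.mem_map_of_mem _ ha)
    rw [← JComp.jOf_eq_of_between (T := (S : Subgroup G)) (S := T.map H.subtype) ?_ ?_]
    · exact PLocal.normalizer_le_normalizer_thompsonSubgroupOf _ hmem
    · intro x hx
      exact ⟨⟨x, hSH (JComp.jOf_le _ hx)⟩, ⟨(show x ∈ (S : Subgroup G) from JComp.jOf_le _ hx), hJB hx⟩, rfl⟩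
    · rintro _ ⟨x, hx, rfl⟩
      exact hx.1
  · refine Subgroup.mem_centralizer_iff.2 fun x hx => ?_
    exact congrArg Subtype.val
      (Subgroup.mem_centralizer_iff.1 hc ⟨x, hXH hx⟩ (Subgroup.subset_normalClosure hx))

/-- The converse. -/
theorem q_of_eq (S : Sylow 2 G) {n c : G}
    (hn : n ∈ Subgroup.normalizer (Cfsg.thompsonSubgroupOf 2 (S : Subgroup G) : Set G))
    (hc : c ∈ Subgroup.centralizer (xh (S : Subgroup G) : Set G)) :
    Cfsg.thompsonSubgroupOf 2 (S : Subgroup G) ≤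
      Subgroup.centralizer ((cj (n * c) (xh (S : Subgroup G)) : Subgroup G) : Set G) := by
  rw [← cj_cj, cj_eq_iff.2 (Subgroup.centralizer_le_normalizer _ hc), ← cj_cent]
  exact (cj_eq_iff.2 hn).ge.trans (Subgroup.map_mono (jOf_le_cent_xh _))

end

end Cfsg.Agent.TwoFactor
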