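import Cfsg.Agent.Lib.SFourClosed.Range
import Cfsg.Agent.Lib.Suzuki.SubgroupClass
import Cfsg.Agent.Lib.Suzuki.LieModel
import Cfsg.Agent.Lib.PSL2.Soluble
import Cfsg.Agent.Lib.PSL2.Subgroups
import Cfsg.Agent.Lib.PSL2.Existence
import Cfsg.Agent.Lib.Solvable.Basic

/-!
The composition factor hypothesis is inherited by sections.

Main results (namespace `Cfsg.Agent.TwoFactor`):
* `simple_section_sz`, `simple_section_psl`: simple sections of `Sz(q)` and `PSL₂(3^odd)`;
* `secComp`: every section has only Suzuki and `PSL₂(3^odd)` non-abelian composition factors.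
-/

set_option autoImplicit false
set_option linter.style.haveILetI false

namespace Cfsg.Agent.TwoFactor

universe u

/-- A non-abelian simple image is not solvable. -/
theorem not_solvable_image {H Y : Type*} [Group H] [Group Y] (φ : H →* Y) (hφ : Function.Surjective φ)
    (hs : IsSimpleGroup Y) (hn : ¬ IsMulCommutative Y) : ¬ Group.IsSolvable H := fun h => by
  have : Group.IsSolvable Y := Group.isSolvable_of_surjective (f := φ) hφ
  exact hn ⟨⟨IsSimpleGroup.comm_iff_isSolvable.2 this⟩⟩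

theorem nonempty_equiv_of_surjective {H Y : Type*} [Group H] [Group Y] (hH : IsSimpleGroup H) (φ : H →* Y)
    (hφ : Function.Surjective φ) (hs : IsSimpleGroup Y) : Nonempty (H ≃* Y) := by
  refine ⟨MulEquiv.ofBijective φ ⟨?_, hφ⟩⟩
  rcases φ.normal_ker.eq_bot_or_eq_top with h | h
  · exact (MonoidHom.ker_eq_bot_iff φ).1 h
  · exfalso
    obtain ⟨y, hy⟩ := exists_ne (1 : Y)
    obtain ⟨x, rfl⟩ := hφ y
    exact hy (MonoidHom.mem_ker.1 (h ▸ Subgroup.mem_top x))

theorem fam_of_equiv {X : Type*} {Y : Type*} [Group X] [Group Y] (e : X ≃* Y)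
    (h : Cfsg.IsSuzukiOrPSL2OddPowerThree X) : Cfsg.IsSuzukiOrPSL2OddPowerThree Y := by
  rcases h with ⟨F, i1, i2, m, hm, hF, ⟨f⟩⟩ | ⟨F, i1, i2, n, hF, ⟨f⟩⟩
  · exact Or.inl ⟨F, i1, i2, m, hm, hF, ⟨e.symm.trans f⟩⟩
  · exact Or.inr ⟨F, i1, i2, n, hF, ⟨e.symm.trans f⟩⟩

section
open Cfsg.Agent.Suzuki

variable {F : Type} [Field F] [Fintype F] {m : ℕ} (hm : 1 ≤ m) (hF : Fintype.card F = 2 ^ (2 * m + 1))

include hm hF in
theorem isSolvable_normalizer_sylow (P : Sylow 2 (Cfsg.Sz F m)) :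
    Group.IsSolvable ↥(Subgroup.normalizer ((P : Subgroup (Cfsg.Sz F m)) : Set (Cfsg.Sz F m))) := by
  haveI : Fact (Nat.Prime 2) := ⟨Nat.prime_two⟩
  obtain ⟨g, rfl⟩ := MulAction.exists_smul_eq (Cfsg.Sz F m) (uSylow hm hF) P
  have hN : Subgroup.normalizer (((g • uSylow hm hF : Sylow 2 (Cfsg.Sz F m)) : Subgroup (Cfsg.Sz F m)) :
      Set (Cfsg.Sz F m)) = (borelSub F m).map (MulAut.conj g).toMonoidHom := by
    rw [Sylow.coe_subgroup_smul]
    show Subgroup.normalizer (((uSub hF).map (MulAut.conj g).toMonoidHom : Subgroup (Cfsg.Sz F m)) :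
      Set (Cfsg.Sz F m)) = _
    rw [← Subgroup.map_equiv_normalizer_eq (uSub hF) (MulAut.conj g), normalizer_uSub hm hF]
  rw [hN]
  haveI := isSolvable_borelSub hm hF
  exact Solvable.isSolvable_map _ _

include hm hF in
theorem isSolvable_normalizer_cyclic (U : Subgroup (Cfsg.Sz F m)) [IsCyclic U] (hU : U ≠ ⊥) :
    Group.IsSolvable ↥(Subgroup.normalizer (U : Set (Cfsg.Sz F m))) := by
  haveI : Fact (Nat.Prime 2) := ⟨Nat.prime_two⟩
  obtain ⟨u, hu, hu1⟩ := (Subgroup.bot_or_exists_ne_one U).resolve_left hU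
  have hC : Group.IsSolvable ↥(Subgroup.centralizer ({u} : Set (Cfsg.Sz F m))) := by
    rcases centralizer_cases hm hF hu1 with ⟨s, hs⟩ | ⟨hc, -, -⟩
    · haveI : Group.IsSolvable ↥(uSub hF) := Solvable.isSolvable_of_isPGroup (isPGroup_uSub hF)
      haveI := Solvable.isSolvable_map (MulAut.conj s).toMonoidHom (uSub hF)
      exact Solvable.isSolvable_of_le hs
    · exact Group.isSolvable_of_comm fun a b => (IsCyclic.commGroup (α := ↥(Subgroup.centralizer ({u} : Set (Cfsg.Sz F m))))).mul_comm a b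
  let f := U.normalizerMonoidHom
  haveI : Group.IsSolvable (MulAut U) :=
    Group.isSolvable_of_isSolvable_injective (f := (IsCyclic.mulAutMulEquiv U).toMonoidHom)
      (IsCyclic.mulAutMulEquiv U).injective
  have hle : U.normalizerMonoidHom.ker.map (Subgroup.normalizer (U : Set (Cfsg.Sz F m))).subtype ≤
      Subgroup.centralizer ({u} : Set (Cfsg.Sz F m)) := by
    rintro _ ⟨x, hx, rfl⟩
    rw [Subgroup.normalizerMonoidHom_ker] at hx
    exact Subgroup.mem_centralizer_singleton_iff.2 (Subgroup.mem_centralizer_iff.1 hx u hu).symm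
  haveI : Group.IsSolvable U.normalizerMonoidHom.ker := by
    haveI := hC
    haveI := Solvable.isSolvable_of_le hle
    exact Group.isSolvable_of_isSolvable_injective
      (f := (U.normalizerMonoidHom.ker.equivMapOfInjective _
        (Subgroup.normalizer (U : Set (Cfsg.Sz F m))).subtype_injective).toMonoidHom)
      (MulEquiv.injective _)
  exact Group.isSolvable_of_ker_le_range U.normalizerMonoidHom.ker.subtype U.normalizerMonoidHom
    (by rw [Subgroup.range_subtype])

end

/-- Non-abelian simple sections of a Suzuki group. -/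
theorem simple_section_sz : ∀ (m : ℕ) (F : Type) (_ : Field F) (_ : Fintype F), 1 ≤ m →
    Fintype.card F = 2 ^ (2 * m + 1) → ∀ (M : Subgroup (Cfsg.Sz F m)) (Y : Type u) [Group Y] (φ : ↥M →* Y),
      Function.Surjective φ → IsSimpleGroup Y → ¬ IsMulCommutative Y →
        Cfsg.IsSuzukiOrPSL2OddPowerThree Y := by
  intro m
  induction m using Nat.strong_induction_on with
  | _ m ih =>
  intro F iF fF hm hF M Y _ φ hφ hs hn
  haveI := hs
  by_cases hM : M = ⊤
  · subst hM
    have hsimp := Suzuki.isSimpleGroup_sz hm hF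
    let ψ : Cfsg.Sz F m →* Y := φ.comp Subgroup.topEquiv.symm.toMonoidHom
    obtain ⟨e⟩ := nonempty_equiv_of_surjective hsimp ψ (hφ.comp Subgroup.topEquiv.symm.surjective) hs
    exact Or.inl ⟨F, iF, fF, m, hm, hF, ⟨e.symm.trans (Suzuki.lieEquiv hm hF)⟩⟩
  rcases Suzuki.subgroup_cases hm hF hM with ⟨P, hP⟩ | ⟨U, hUc, hUcard, hU⟩ |
    ⟨K, iK, fK, k, hk1, hkm, hK, -, T, ⟨e⟩, hT⟩
  · haveI := isSolvable_normalizer_sylow hm hF P
    exact absurd (Solvable.isSolvable_of_le hP) (not_solvable_image φ hφ hs hn)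
  · have hU0 : U ≠ ⊥ := by
      rintro rfl
      have h8 : 8 ≤ 2 ^ (2 * m + 1) :=
        le_trans (by norm_num : 8 ≤ 2 ^ 3) (Nat.pow_le_pow_right two_pos (by omega))
      have h2 : 2 * 2 ^ (m + 1) ≤ 2 ^ (2 * m + 1) := by
        rw [← pow_succ']; exact Nat.pow_le_pow_right two_pos (by omega)
      rw [Subgroup.card_bot] at hUcard
      simp only [Set.mem_insert_iff, Set.mem_singleton_iff, Suzuki.torusA, Suzuki.torusB] at hUcard
      omega
    haveI := hUc
    haveI := isSolvable_normalizer_cyclic hm hF U hU0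
    exact absurd (Solvable.isSolvable_of_le hU) (not_solvable_image φ hφ hs hn)
  · let ι : ↥T →* Cfsg.Sz K k := e.toMonoidHom
    let M' := (M.subgroupOf T).map ι
    let e1 : ↥(M.subgroupOf T) ≃* ↥M := Subgroup.subgroupOfEquivOfLe hT
    let e2 : ↥(M.subgroupOf T) ≃* ↥M' := (M.subgroupOf T).equivMapOfInjective ι e.injective
    let ee : ↥M' ≃* ↥M := e2.symm.trans e1
    exact ih k hkm K iK fK hk1 hK M' Y (φ.comp ee.toMonoidHom) (hφ.comp ee.surjective) hs hn

/-- Non-abelian simple sections of `PSL₂(3^odd)`. -/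
theorem simple_section_psl {F : Type} [Field F] [Fintype F] {n : ℕ} (hF : Fintype.card F = 3 ^ (2 * n + 1))
    (H : Subgroup (Matrix.ProjectiveSpecialLinearGroup (Fin 2) F)) {Y : Type u} [Group Y] (φ : ↥H →* Y)
    (hφ : Function.Surjective φ) (hs : IsSimpleGroup Y) (hn : ¬ IsMulCommutative Y) :
    Cfsg.IsSuzukiOrPSL2OddPowerThree Y := by
  haveI := hs
  haveI : Fact (Nat.Prime 3) := ⟨Nat.prime_three⟩
  haveI : CharP F 3 := charP_of_card_eq_prime_pow hF
  have hcard : Nat.card F = 3 ^ (2 * n + 1) := by rw [Nat.card_eq_fintype_card, hF]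
  have hns := not_solvable_image φ hφ hs hn
  have hfive : ¬ 5 ∣ Nat.card H := by
    intro h
    have h1 : 5 ∣ Nat.card F * ((Nat.card F + 1) * (Nat.card F - 1)) := by
      rw [← PSL2.card_psl_mul (F := F)]
      exact (h.trans (Subgroup.card_subgroup_dvd_card H)).mul_left _
    have hq : Nat.card F % 5 = 3 ∨ Nat.card F % 5 = 2 := by
      rw [hcard]
      rcases Nat.even_or_odd' n with ⟨j, rfl | rfl⟩
      · left; rw [show 2 * (2 * j) + 1 = 4 * j + 1 by ring, pow_succ, pow_mul, Nat.mul_mod, Nat.pow_mod]; norm_num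
      · right; rw [show 2 * (2 * j + 1) + 1 = 4 * j + 3 by ring, pow_add, pow_mul, Nat.mul_mod, Nat.pow_mod]; norm_num
    rcases (Nat.Prime.dvd_mul (by norm_num)).1 h1 with h' | h'
    · omega
    · rcases (Nat.Prime.dvd_mul (by norm_num)).1 h' with h'' | h'' <;> omega
  rcases PSL2.psl_dickson 3 H with ⟨-, S, hS⟩ | ⟨-, hc, -⟩ | ⟨k, -, -, -, -, -, ⟨e⟩⟩ | ⟨h3, h⟩ |
    ⟨-, h60, -⟩ | ⟨R, m, hm1, hR, h⟩
  · obtain ⟨P, hP⟩ := PSL2.normalizer_sylow_le 3 S
    exact absurd (PSL2.isSolvable_of_le_stabilizer 3 (hS.trans hP)) hns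
  · refine absurd ?_ hns
    exact Group.isSolvable_of_comm fun a b => (IsCyclic.commGroup (α := ↥H)).mul_comm a b
  · haveI := PSL2.isSolvable_dihedral k
    exact absurd (Group.isSolvable_of_isSolvable_injective (f := e.toMonoidHom) e.injective) hns
  · exfalso
    rcases h with ⟨⟨e⟩⟩ | ⟨⟨e⟩⟩ | ⟨⟨e⟩⟩ <;> apply h3 <;> rw [Nat.card_congr e.toEquiv]
    · rw [PSL2.card_alt_four]; norm_num
    · rw [PSL2.card_perm_four]; norm_num
    · rw [PSL2.card_alt_five]; norm_num
  · exact absurd (h60 ▸ (by norm_num : 5 ∣ 60)) hfive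
  rw [hcard] at hR
  obtain ⟨k, -, hk⟩ := (Nat.dvd_prime_pow Nat.prime_three).1 (hR ▸ dvd_pow_self (Nat.card R) (by omega : m ≠ 0))
  rw [hk, ← pow_mul] at hR
  have hkm : k * m = 2 * n + 1 := Nat.pow_right_injective (by norm_num) hR
  obtain ⟨hko, hmo⟩ : Odd k ∧ Odd m := Nat.odd_mul.1 (hkm ▸ odd_two_mul_add_one n)
  rcases h with ⟨⟨e⟩⟩ | ⟨-, hev, -⟩
  swap
  · exact absurd hev (Nat.not_even_iff_odd.2 hmo)
  by_cases hk1 : k = 1
  · refine absurd (PSL2.isSolvable_of_card_two_three ?_) hns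
    have h1 := PSL2.card_psl_mul (F := R)
    rw [hk, hk1] at h1
    norm_num at h1
    rw [Nat.card_congr e.toEquiv, Finset.mem_insert, Finset.mem_insert, Finset.mem_singleton]
    omega
  have h4 : 4 ≤ Nat.card R := by
    rw [hk]
    obtain ⟨i, hi⟩ := hko
    calc 4 ≤ 3 ^ 2 := by norm_num
      _ ≤ 3 ^ k := Nat.pow_le_pow_right (by norm_num) (by omega)
  have hsR := PSL2.isSimpleGroup_psl (L := R) h4
  obtain ⟨e'⟩ := nonempty_equiv_of_surjective hsR (φ.comp e.symm.toMonoidHom) (hφ.comp e.symm.surjective) hs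
  obtain ⟨i, hi⟩ := hko
  letI : Fintype R := Fintype.ofFinite R
  exact Or.inr ⟨R, inferInstance, inferInstance, i, by rw [← Nat.card_eq_fintype_card, hk, hi], ⟨e'.symm⟩⟩

/-- Non-abelian simple sections of a finite group with restricted composition factors. -/
theorem simple_section : ∀ (n : ℕ) (G : Type u) [Group G] [Finite G], Nat.card G ≤ n →
    Cfsg.IsCompositionKGroupWith Cfsg.IsSuzukiOrPSL2OddPowerThree G →
    ∀ (P : Subgroup G) (Y : Type u) [Group Y] (φ : ↥P →* Y), Function.Surjective φ → IsSimpleGroup Y →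
      ¬ IsMulCommutative Y → Cfsg.IsSuzukiOrPSL2OddPowerThree Y := by
  intro n
  induction n with
  | zero => intro G _ _ hn; exact absurd hn (Nat.card_pos (α := G)).not_ge
  | succ n ih =>
  intro G _ _ hn hc P Y _ φ hφ hs hnc
  haveI := hs
  haveI : Nontrivial G := by
    obtain ⟨y, hy⟩ := exists_ne (1 : Y)
    obtain ⟨x, rfl⟩ := hφ y
    exact nontrivial_of_ne (x : G) 1 fun h => hy (by rw [show x = 1 from Subtype.ext h, map_one])
  by_cases hG : IsSimpleGroup G
  · have hfam : Cfsg.IsSuzukiOrPSL2OddPowerThree G := by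
      let e : ↥(⊤ : Subgroup G) ⧸ (⊥ : Subgroup ↥(⊤ : Subgroup G)) ≃* G :=
        QuotientGroup.quotientBot.trans Subgroup.topEquiv
      refine fam_of_equiv e (hc ⊤ (Subgroup.IsSubnormal.top) ⊥ (MulEquiv.isSimpleGroup e) fun h => hnc ?_)
      refine ⟨⟨fun a b => ?_⟩⟩
      obtain ⟨x, rfl⟩ := hφ a
      obtain ⟨y, rfl⟩ := hφ b
      rw [← map_mul, ← map_mul]
      refine congrArg φ (Subtype.ext (e.symm.injective ?_))
      rw [Subgroup.coe_mul, Subgroup.coe_mul, map_mul, map_mul]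
      exact h.is_comm.comm _ _
    rcases hfam with ⟨F, iF, fF, m, hm, hF, ⟨e⟩⟩ | ⟨F, iF, fF, k, hF, ⟨e⟩⟩
    · let e' := e.trans (Suzuki.lieEquiv hm hF).symm
      let ee := (P.equivMapOfInjective e'.toMonoidHom e'.injective).symm
      exact simple_section_sz m F iF fF hm hF _ Y (φ.comp ee.toMonoidHom) (hφ.comp ee.surjective) hs hnc
    · let ee := (P.equivMapOfInjective e.toMonoidHom e.injective).symm
      exact simple_section_psl hF _ (φ.comp ee.toMonoidHom) (hφ.comp ee.surjective) hs hnc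
  obtain ⟨N, hN, hN0, hN1⟩ : ∃ N : Subgroup G, N.Normal ∧ N ≠ ⊥ ∧ N ≠ ⊤ := by
    by_contra hcon
    push Not at hcon
    exact hG ⟨fun H hH => (em (H = ⊥)).imp id (hcon H hH)⟩
  haveI := hN
  have hlt : Nat.card N < Nat.card G := by
    rw [← Subgroup.card_top (G := G)]
    exact Set.ncard_lt_ncard (lt_top_iff_ne_top.2 hN1 : N < ⊤) (Set.toFinite _)
  haveI : ((N.subgroupOf P).map φ).Normal := (inferInstance : (N.subgroupOf P).Normal).map φ hφ
  rcases ((inferInstance : ((N.subgroupOf P).map φ).Normal)).eq_bot_or_eq_top with h | h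
  · -- a section of the quotient
    let q := QuotientGroup.mk' N
    have hcard : Nat.card (G ⧸ N) ≤ n := by
      have h1 := Subgroup.card_eq_card_quotient_mul_card_subgroup N
      have h2 : 1 < Nat.card N := Subgroup.one_lt_card_iff_ne_bot N |>.2 hN0
      have h3 : 0 < Nat.card (G ⧸ N) := Nat.card_pos
      have : 2 * Nat.card (G ⧸ N) ≤ Nat.card G := by rw [h1, mul_comm 2]; exact Nat.mul_le_mul_left _ h2
      omega
    let g := (q.comp P.subtype).rangeRestrict
    have hker : g.ker ≤ φ.ker := by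
      intro x hx
      rw [MonoidHom.ker_rangeRestrict, MonoidHom.mem_ker] at hx
      have : φ x ∈ (N.subgroupOf P).map φ := ⟨x, (QuotientGroup.eq_one_iff ((x : G))).1 hx, rfl⟩
      rw [h] at this
      exact Subgroup.mem_bot.1 this
    refine ih (G ⧸ N) hcard (SFourClosed.comps_of_surjective q (QuotientGroup.mk'_surjective N) hc)
      (q.comp P.subtype).range Y (g.liftOfSurjective (q.comp P.subtype).rangeRestrict_surjective ⟨φ, hker⟩) ?_ hs hnc
    intro y
    obtain ⟨x, rfl⟩ := hφ y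
    exact ⟨g x, MonoidHom.liftOfRightInverse_comp_apply _ _ _ _ x⟩
  · -- a section of the normal subgroup
    have hcN : Cfsg.IsCompositionKGroupWith Cfsg.IsSuzukiOrPSL2OddPowerThree ↥N := by
      intro H hH M _ hsM hnM
      let e := H.equivMapOfInjective N.subtype N.subtype_injective
      let M' := M.map e.toMonoidHom
      haveI : M'.Normal := (inferInstance : M.Normal).map _ e.surjective
      let q : ↥H ⧸ M ≃* ↥(H.map N.subtype) ⧸ M' := QuotientGroup.congr M M' e rfl
      haveI := hsM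
      refine fam_of_equiv q.symm (hc (H.map N.subtype) ?_ M' (MulEquiv.isSimpleGroup q.symm) fun hcm => hnM ?_)
      · exact hH.trans' (Subgroup.Normal.isSubnormal hN)
      · exact ⟨⟨fun u v => q.injective (by rw [map_mul, map_mul]; exact hcm.is_comm.comm _ _)⟩⟩
    let ι : ↥(N.subgroupOf P) →* ↥N := (P.subtype.comp (N.subgroupOf P).subtype).codRestrict N fun x => x.2
    have hι : Function.Injective ι := fun a b hab =>
      Subtype.ext (Subtype.ext (congrArg (fun z : ↥N => (z : G)) hab))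
    let ee := (MonoidHom.ofInjective hι).symm
    refine ih ↥N (by omega) hcN ι.range Y ((φ.comp (N.subgroupOf P).subtype).comp ee.toMonoidHom) ?_ hs hnc
    intro y
    obtain ⟨x, hx, rfl⟩ := h ▸ Subgroup.mem_top y
    exact ⟨MonoidHom.ofInjective hι ⟨x, hx⟩, by simp [ee]⟩

/-- Every section satisfies the composition factor hypothesis. -/
theorem comps_of_isSec {G X : Type u} [Group G] [Finite G] [Group X]
    (hc : Cfsg.IsCompositionKGroupWith Cfsg.IsSuzukiOrPSL2OddPowerThree G) (hX : FunctorControl.IsSec G X) :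
    Cfsg.IsCompositionKGroupWith Cfsg.IsSuzukiOrPSL2OddPowerThree X := by
  intro H _ N _ hs hn
  obtain ⟨P, φ, hφ⟩ := (hX.subgroup H).of_surjective (QuotientGroup.mk' N) (QuotientGroup.mk'_surjective N)
  exact simple_section (Nat.card G) G le_rfl hc P _ φ hφ hs hn

/-- The section hypothesis. -/
theorem secComp {G : Type u} [Group G] [Finite G]
    (hc : Cfsg.IsCompositionKGroupWith Cfsg.IsSuzukiOrPSL2OddPowerThree G) : SFourClosed.SecComp G :=
  fun _ _ hX _ => comps_of_isSec hc hX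

end Cfsg.Agent.TwoFactor
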