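import Cfsg.Agent.Lib.SFourClosed.Weak
import Cfsg.Agent.Lib.TwoFactor.Bounds

/-!
E-groups and `Ĵ` inside an ambient group.

Main results (namespace `Cfsg.Agent.TwoFactor`):
* `Wit T V`: the hypothesis in the definition of an E-group; `eg_iff`, `eg_map`;
* `hatJ`, `xh`: `Ĵ(T)` and `Ω₁(Z(Ĵ(T)))`; monotonicity, conjugation, transport (`hatJ_map`).
-/

set_option autoImplicit false
set_option linter.unusedSectionVars false
set_option linter.style.haveILetI false

namespace Cfsg.Agent.TwoFactor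

open SFourClosed AlperinFamily

universe u v

/-- The two inequalities of an E-group witness. -/
def Margins {G : Type*} [Group G] (V R : Subgroup G) : Prop :=
  (Subgroup.centralizer (V : Set G)).relIndex R ^ 3 < (Subgroup.centralizer (R : Set G)).relIndex V ^ 2 ∧
    (Subgroup.centralizer (V : Set G)).relIndex R < Nat.card ↥⁅V, R⁆

/-- `V` is a normal elementary subgroup of `T` with both inequalities. -/
def Wit {G : Type*} [Group G] (T V : Subgroup G) : Prop :=
  V ≤ T ∧ T ≤ Subgroup.normalizer (V : Set G) ∧ Cfsg.IsElementaryAbelian 2 V ∧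
    ∀ R : Subgroup G, R ≤ T → (∀ r ∈ R, ∀ s ∈ R, r * s * r⁻¹ * s⁻¹ ∈ Subgroup.centralizer (V : Set G)) →
      (∀ r ∈ R, r * r ∈ Subgroup.centralizer (V : Set G)) → ¬ R ≤ Subgroup.centralizer (V : Set G) →
        Margins V R

section
variable {G : Type u} [Group G] {G' : Type v} [Group G'] (f : G' →* G) (hf : Function.Injective f)

include hf in
theorem comap_centralizer (V : Subgroup G') :
    (Subgroup.centralizer ((V.map f : Subgroup G) : Set G)).comap f = Subgroup.centralizer (V : Set G') := by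
  ext x
  simp only [Subgroup.mem_comap, Subgroup.mem_centralizer_iff]
  constructor
  · exact fun h v hv => hf (by rw [map_mul, map_mul]; exact h _ (Subgroup.mem_map_of_mem f hv))
  · rintro h _ ⟨v, hv, rfl⟩
    rw [← map_mul, ← map_mul, h v hv]

include hf in
theorem margins_map (V R : Subgroup G') : Margins (V.map f) (R.map f) ↔ Margins V R := by
  unfold Margins
  rw [← Subgroup.relIndex_comap, ← Subgroup.relIndex_comap, comap_centralizer f hf, comap_centralizer f hf,
    ← Subgroup.map_commutator, Subgroup.card_map_of_injective hf]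

include hf in
theorem wit_map (T V : Subgroup G') : Wit (T.map f) (V.map f) ↔ Wit T V := by
  have hC : ∀ x : G', f x ∈ Subgroup.centralizer ((V.map f : Subgroup G) : Set G) ↔
      x ∈ Subgroup.centralizer (V : Set G') := fun x => by
    rw [← Subgroup.mem_comap, comap_centralizer f hf]
  have hle : ∀ R : Subgroup G', R.map f ≤ Subgroup.centralizer ((V.map f : Subgroup G) : Set G) ↔
      R ≤ Subgroup.centralizer (V : Set G') := fun R => by
    rw [Subgroup.map_le_iff_le_comap, comap_centralizer f hf]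
  constructor
  · rintro ⟨h1, h2, h3, h4⟩
    refine ⟨(Subgroup.map_le_map_iff_of_injective hf).1 h1, fun t ht => Subgroup.mem_normalizer_iff.2 fun v => ?_,
      (PLocal.elemAb_map_iff_of_injOn hf.injOn le_rfl).1 h3, fun R hR hc hs hn => ?_⟩
    · have h := Subgroup.mem_normalizer_iff.1 (h2 (Subgroup.mem_map_of_mem f ht)) (f v)
      rwa [← map_inv, ← map_mul, ← map_mul, Subgroup.mem_map_iff_mem hf, Subgroup.mem_map_iff_mem hf] at h
    · rw [← margins_map f hf]
      refine h4 _ (Subgroup.map_mono hR) ?_ ?_ (mt (hle R).1 hn)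
      · rintro _ ⟨r, hr, rfl⟩ _ ⟨s, hs', rfl⟩
        rw [← map_inv, ← map_inv, ← map_mul, ← map_mul, ← map_mul]
        exact (hC _).2 (hc r hr s hs')
      · rintro _ ⟨r, hr, rfl⟩
        rw [← map_mul]
        exact (hC _).2 (hs r hr)
  · rintro ⟨h1, h2, h3, h4⟩
    refine ⟨Subgroup.map_mono h1, (Subgroup.map_mono h2).trans (Subgroup.le_normalizer_map f),
      (PLocal.elemAb_map_iff_of_injOn hf.injOn le_rfl).2 h3, fun R hR hc hs hn => ?_⟩
    obtain ⟨R', rfl⟩ : ∃ R' : Subgroup G', R'.map f = R :=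
      ⟨R.comap f, Subgroup.map_comap_eq_self (hR.trans (Subgroup.map_le_range f T))⟩
    rw [margins_map f hf]
    refine h4 R' ((Subgroup.map_le_map_iff_of_injective hf).1 hR) (fun r hr s hs' => ?_) (fun r hr => ?_)
      (mt (hle R').2 hn)
    · rw [← hC, map_mul, map_mul, map_mul, map_inv, map_inv]
      exact hc _ (Subgroup.mem_map_of_mem f hr) _ (Subgroup.mem_map_of_mem f hs')
    · rw [← hC, map_mul]
      exact hs _ (Subgroup.mem_map_of_mem f hr)

theorem card_ineq [Finite G] (A B : Subgroup G) :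
    (Nat.card A) ^ 3 * (Nat.card ↥(B ⊓ Subgroup.centralizer (A : Set G))) ^ 2 <
        (Nat.card B) ^ 2 * (Nat.card ↥(A ⊓ Subgroup.centralizer (B : Set G))) ^ 3 ↔
      (Subgroup.centralizer (B : Set G)).relIndex A ^ 3 < (Subgroup.centralizer (A : Set G)).relIndex B ^ 2 := by
  conv_lhs =>
    rw [← card_mul_relIndex (H := A ⊓ Subgroup.centralizer (B : Set G)) (K := A) inf_le_left,
      ← card_mul_relIndex (H := B ⊓ Subgroup.centralizer (A : Set G)) (K := B) inf_le_left]
  rw [Subgroup.inf_relIndex_left, Subgroup.inf_relIndex_left]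
  set a := Nat.card ↥(A ⊓ Subgroup.centralizer (B : Set G))
  set b := Nat.card ↥(B ⊓ Subgroup.centralizer (A : Set G))
  have ha : 0 < a ^ 3 * b ^ 2 := Nat.mul_pos (pow_pos Nat.card_pos _) (pow_pos Nat.card_pos _)
  constructor
  · intro h
    refine Nat.lt_of_mul_lt_mul_left (a := a ^ 3 * b ^ 2) ?_
    calc _ = (a * _) ^ 3 * b ^ 2 := by ring
      _ < _ := h
      _ = _ := by ring
  · intro h
    have h' := Nat.mul_lt_mul_of_pos_left h ha
    calc (a * _) ^ 3 * b ^ 2 = _ := by ring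
      _ < _ := h'
      _ = _ := by ring

theorem isEGroup_iff_wit [Finite G] : Cfsg.IsEGroup G ↔ ∀ V : Subgroup G, Wit ⊤ V → V ≤ Subgroup.center G := by
  have hcomm : ∀ R V : Subgroup G, ⁅R, R⁆ ≤ Subgroup.centralizer (V : Set G) ↔
      ∀ r ∈ R, ∀ s ∈ R, r * s * r⁻¹ * s⁻¹ ∈ Subgroup.centralizer (V : Set G) := fun R V => by
    rw [Subgroup.commutator_le]; simp only [commutatorElement_def]
  have hsq : ∀ R V : Subgroup G, (∀ r ∈ R, r ^ 2 ∈ Subgroup.centralizer (V : Set G)) ↔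
      ∀ r ∈ R, r * r ∈ Subgroup.centralizer (V : Set G) := fun R V => by simp only [pow_two]
  have hlt : ∀ R V : Subgroup G,
      Nat.card R < Nat.card ↥⁅V, R⁆ * Nat.card ↥(R ⊓ Subgroup.centralizer (V : Set G)) ↔
        (Subgroup.centralizer (V : Set G)).relIndex R < Nat.card ↥⁅V, R⁆ := by
    intro R V
    conv_lhs =>
      lhs
      rw [← card_mul_relIndex (H := R ⊓ Subgroup.centralizer (V : Set G)) (K := R) inf_le_left]
    rw [Subgroup.inf_relIndex_left, mul_comm]
    exact ⟨fun h => Nat.lt_of_mul_lt_mul_right h, fun h => Nat.mul_lt_mul_of_pos_right h Nat.card_pos⟩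
  constructor
  · rintro h V ⟨-, hn, he, hm⟩
    refine h V (Subgroup.normalizer_eq_top_iff.1 (top_le_iff.1 hn)) he fun R hc hs hne => ?_
    obtain ⟨m1, m2⟩ := hm R le_top ((hcomm R V).1 hc) ((hsq R V).1 hs) hne
    exact ⟨(card_ineq R V).2 m1, (hlt R V).2 m2⟩
  · intro h V hn he hm
    refine h V ⟨le_top, (Subgroup.normalizer_eq_top_iff.2 hn).ge, he, fun R _ hc hs hne => ?_⟩
    obtain ⟨m1, m2⟩ := hm R ((hcomm R V).2 hc) ((hsq R V).2 hs) hne
    exact ⟨(card_ineq R V).1 m1, (hlt R V).1 m2⟩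

/-- E-subgroups in terms of the ambient group. -/
theorem eg_iff [Finite G] (U : Subgroup G) :
    Cfsg.IsEGroup ↥U ↔ ∀ V : Subgroup G, Wit U V → U ≤ Subgroup.centralizer (V : Set G) := by
  have htop : (⊤ : Subgroup ↥U).map U.subtype = U := PLocal.top_map_subtype U
  rw [isEGroup_iff_wit]
  constructor
  · intro h V hV
    have e : (V.subgroupOf U).map U.subtype = V := Subgroup.map_subgroupOf_eq_of_le hV.1
    have h' := h (V.subgroupOf U) ((wit_map U.subtype U.subtype_injective ⊤ _).1 (by rw [htop, e]; exact hV))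
    refine le_cent_comm fun v hv => Subgroup.mem_centralizer_iff.2 fun x hx => ?_
    exact congrArg Subtype.val (Subgroup.mem_center_iff.1 (h' (show (⟨v, hV.1 hv⟩ : ↥U) ∈ V.subgroupOf U from hv)) ⟨x, hx⟩)
  · intro h V hV
    have h0 := (wit_map U.subtype U.subtype_injective ⊤ V).2 hV
    rw [htop] at h0
    have h' := h (V.map U.subtype) h0
    exact fun v hv => Subgroup.mem_center_iff.2 fun x => Subtype.ext
      (Subgroup.mem_centralizer_iff.1 (h' x.2) (v : G) (Subgroup.mem_map_of_mem _ hv)).symm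

include hf in
theorem eg_map [Finite G] [Finite G'] (U : Subgroup G') :
    Cfsg.IsEGroup ↥(U.map f) ↔ Cfsg.IsEGroup ↥U := by
  rw [eg_iff, eg_iff]
  constructor
  · intro h V hV
    have h' := h (V.map f) ((wit_map f hf U V).2 hV)
    rwa [Subgroup.map_le_iff_le_comap, comap_centralizer f hf] at h'
  · intro h V hV
    obtain ⟨V', rfl⟩ : ∃ V' : Subgroup G', V'.map f = V :=
      ⟨V.comap f, Subgroup.map_comap_eq_self (hV.1.trans (Subgroup.map_le_range f U))⟩
    rw [Subgroup.map_le_iff_le_comap, comap_centralizer f hf]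
    exact h V' ((wit_map f hf U V').1 hV)

end

section
variable {G : Type u} [Group G]

/-- `Ĵ(T)`. -/
def hatJ (T : Subgroup G) : Subgroup G := (Cfsg.jHat ↥T).map T.subtype

/-- `Ω₁(Z(Ĵ(T)))`. -/
def xh (T : Subgroup G) : Subgroup G :=
  Cfsg.omegaOne 2 (hatJ T ⊓ Subgroup.centralizer (hatJ T : Set G))

theorem hatJ_le (T : Subgroup G) : hatJ T ≤ T := Subgroup.map_subtype_le _

variable [Finite G]

theorem hatJ_le_iff {T H : Subgroup G} : hatJ T ≤ H ↔ ∀ U : Subgroup G, U ≤ T → Cfsg.IsEGroup ↥U →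
    Cfsg.thompsonSubgroupOf 2 T ≤ U → U ≤ H := by
  rw [hatJ, Subgroup.map_le_iff_le_comap, Cfsg.jHat, sSup_le_iff]
  constructor
  · intro h U hUT hU hJ
    have e : (U.subgroupOf T).map T.subtype = U := Subgroup.map_subgroupOf_eq_of_le hUT
    have h1 := Subgroup.map_mono (f := T.subtype) (h (U.subgroupOf T)
      ⟨(eg_map T.subtype T.subtype_injective _).1 (e.symm ▸ hU),
        (Subgroup.map_le_map_iff_of_injective T.subtype_injective).1 (e.symm ▸ hJ)⟩)
    rw [e] at h1
    exact h1.trans (Subgroup.map_comap_le _ _)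
  · rintro h U ⟨hU, hJ⟩
    rw [← Subgroup.map_le_iff_le_comap]
    exact h _ (Subgroup.map_subtype_le U) ((eg_map T.subtype T.subtype_injective U).2 hU) (Subgroup.map_mono hJ)

theorem le_hatJ {T U : Subgroup G} (hUT : U ≤ T) (hU : Cfsg.IsEGroup ↥U)
    (hJ : Cfsg.thompsonSubgroupOf 2 T ≤ U) : U ≤ hatJ T :=
  hatJ_le_iff.1 le_rfl U hUT hU hJ

/-- A witness is centralised by the largest elementary abelian subgroups. -/
theorem Wit.maxElem_le {T P V A : Subgroup G} (h : Wit T V) (hVP : V ≤ P) (hA : A ∈ JComp.maxElem P)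
    (hAT : A ≤ T) : A ≤ Subgroup.centralizer (V : Set G) := by
  by_contra hn
  obtain ⟨h1, -⟩ := h.2.2.2 A hAT
    (fun r hr s hs => by rw [JComp.elem_comm hA.2.1 hr hs, mul_inv_cancel_right, mul_inv_cancel]; exact one_mem _)
    (fun r hr => by rw [JComp.elem_mul_self hA.2.1 hr]; exact one_mem _) hn
  have h2 := relIndex_le_of_maxElem h.2.2.1 hVP hA
  have h3 := (Nat.pow_le_pow_left h2 2).trans
    (Nat.pow_le_pow_right (relIndex_pos _ _) (by norm_num : 2 ≤ 3))
  omega

theorem Wit.jOf_le {T V : Subgroup G} (h : Wit T V) :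
    Cfsg.thompsonSubgroupOf 2 T ≤ Subgroup.centralizer (V : Set G) :=
  JComp.jOf_le_iff.2 fun _ hA => h.maxElem_le h.1 hA hA.1

/-- `J(T)` is an E-group. -/
theorem jOf_isEGroup (T : Subgroup G) : Cfsg.IsEGroup ↥(Cfsg.thompsonSubgroupOf 2 T) := by
  rw [eg_iff]
  intro V hV
  exact JComp.jOf_le_iff.2 fun A hA =>
    hV.maxElem_le (hV.1.trans (JComp.jOf_le T)) hA (JComp.le_jOf hA)

theorem jOf_le_hatJ (T : Subgroup G) : Cfsg.thompsonSubgroupOf 2 T ≤ hatJ T :=
  le_hatJ (JComp.jOf_le T) (jOf_isEGroup T) le_rfl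

theorem hatJ_map {G' : Type v} [Group G'] [Finite G'] (f : G' →* G) (hf : Function.Injective f)
    (T : Subgroup G') : (hatJ T).map f = hatJ (T.map f) := by
  have hJ : (Cfsg.thompsonSubgroupOf 2 T).map f = Cfsg.thompsonSubgroupOf 2 (T.map f) :=
    PLocal.map_thompsonSubgroupOf f hf.injOn
  refine le_antisymm ?_ (hatJ_le_iff.2 fun U hU hE hJU => ?_)
  · rw [Subgroup.map_le_iff_le_comap, hatJ_le_iff]
    intro U hU hE hJU
    rw [← Subgroup.map_le_iff_le_comap]
    exact le_hatJ (Subgroup.map_mono hU) ((eg_map f hf U).2 hE) (hJ ▸ Subgroup.map_mono hJU)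
  · obtain ⟨U', rfl⟩ : ∃ U' : Subgroup G', U'.map f = U :=
      ⟨U.comap f, Subgroup.map_comap_eq_self (hU.trans (Subgroup.map_le_range f T))⟩
    refine Subgroup.map_mono (le_hatJ ((Subgroup.map_le_map_iff_of_injective hf).1 hU)
      ((eg_map f hf U').1 hE) ?_)
    rw [← Subgroup.map_le_map_iff_of_injective hf, hJ]
    exact hJU

theorem xh_map {G' : Type u} [Group G'] [Finite G'] (f : G' →* G) (hf : Function.Injective f)
    (T : Subgroup G') : (xh T).map f = xh (T.map f) := by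
  unfold xh Cfsg.omegaOne
  rw [MonoidHom.map_closure, ← hatJ_map f hf]
  congr 1
  ext y
  constructor
  · rintro ⟨x, ⟨⟨hx1, hx2⟩, hx3⟩, rfl⟩
    refine ⟨⟨Subgroup.mem_map_of_mem f hx1, ?_⟩, by rw [← map_pow, hx3, map_one]⟩
    exact Subgroup.mem_comap.1 ((comap_centralizer f hf (hatJ T)).ge hx2)
  · rintro ⟨⟨⟨x, hx1, rfl⟩, hx2⟩, hx3⟩
    refine ⟨x, ⟨⟨hx1, (comap_centralizer f hf (hatJ T)).le hx2⟩, hf ?_⟩, rfl⟩
    rw [map_pow, hx3, map_one]

theorem hatJ_cj (g : G) (T : Subgroup G) : hatJ (cj g T) = cj g (hatJ T) :=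
  (hatJ_map _ (MulAut.conj g).injective T).symm

theorem xh_cj (g : G) (T : Subgroup G) : xh (cj g T) = cj g (xh T) :=
  (xh_map _ (MulAut.conj g).injective T).symm

theorem normalizer_le_hatJ (T : Subgroup G) :
    Subgroup.normalizer (T : Set G) ≤ Subgroup.normalizer (hatJ T : Set G) := fun g hg =>
  cj_eq_iff.1 (by rw [← hatJ_cj, cj_eq_iff.2 hg])

theorem normalizer_le_xh (T : Subgroup G) :
    Subgroup.normalizer (T : Set G) ≤ Subgroup.normalizer (xh T : Set G) := fun g hg =>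
  cj_eq_iff.1 (by rw [← xh_cj, cj_eq_iff.2 hg])

theorem xh_elem (T : Subgroup G) : Cfsg.IsElementaryAbelian 2 (xh T) :=
  PReduced.omegaOne_isElementaryAbelian (PReduced.center_commute _)

theorem xh_le (T : Subgroup G) : xh T ≤ hatJ T :=
  (PReduced.omegaOne_le 2 _).trans inf_le_left

theorem hatJ_le_cent_xh (T : Subgroup G) : hatJ T ≤ Subgroup.centralizer (xh T : Set G) :=
  le_cent_comm ((PReduced.omegaOne_le 2 _).trans inf_le_right)

theorem jOf_le_cent_xh (T : Subgroup G) :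
    Cfsg.thompsonSubgroupOf 2 T ≤ Subgroup.centralizer (xh T : Set G) :=
  (jOf_le_hatJ T).trans (hatJ_le_cent_xh T)

theorem xh_le_jOf (T : Subgroup G) : xh T ≤ Cfsg.thompsonSubgroupOf 2 T :=
  le_jOf_of_cent (xh_elem T) ((xh_le T).trans (hatJ_le T)) (jOf_le_cent_xh T)

theorem le_xh {T V : Subgroup G} (hV : Cfsg.IsElementaryAbelian 2 V) (hVJ : V ≤ hatJ T)
    (hc : hatJ T ≤ Subgroup.centralizer (V : Set G)) : V ≤ xh T :=
  fun v hv => PReduced.mem_omegaOne ⟨hVJ hv, le_cent_comm hc hv⟩ (hV.2 v hv)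

variable (S : Sylow 2 G)

/-- A 2-group above `Ĵ(S)` has the same `Ĵ`. -/
theorem hatJ_of_ge {T : Subgroup G} (hT : IsPGroup 2 T) (hle : hatJ (S : Subgroup G) ≤ T) :
    hatJ T = hatJ (S : Subgroup G) ∧ xh T = xh (S : Subgroup G) ∧
      Cfsg.thompsonSubgroupOf 2 T = Cfsg.thompsonSubgroupOf 2 (S : Subgroup G) := by
  haveI : Fact (Nat.Prime 2) := ⟨Nat.prime_two⟩
  have hJT := (jOf_of_le S hT ((jOf_le_hatJ _).trans hle)).1
  have h1 : hatJ (S : Subgroup G) ≤ hatJ T := hatJ_le_iff.2 fun U hU hE hJ =>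
    le_hatJ ((le_hatJ hU hE hJ).trans hle) hE (hJT.le.trans hJ)
  obtain ⟨P, hP⟩ := hT.exists_le_sylow
  obtain ⟨x, hx⟩ := MulAction.exists_smul_eq G S P
  have hPx : (P : Subgroup G) = cj x (S : Subgroup G) := by rw [← hx]; rfl
  have hJP := (jOf_of_le S P.isPGroup' (((jOf_le_hatJ _).trans hle).trans hP)).1
  have h2 : hatJ T ≤ cj x (hatJ (S : Subgroup G)) := by
    rw [← hatJ_cj, ← hPx]
    exact hatJ_le_iff.2 fun U hU hE hJ => le_hatJ (hU.trans hP) hE (hJP.le.trans (hJT.ge.trans hJ))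
  have he : hatJ T = hatJ (S : Subgroup G) :=
    (Subgroup.eq_of_le_of_card_ge h1 ((Subgroup.card_le_of_le h2).trans (card_cj x _).le)).symm
  exact ⟨he, by rw [xh, xh, he], hJT⟩

/-- For `J(S) ≤ T ≤ S`. -/
theorem xh_le_of_between {T : Subgroup G} (hJ : Cfsg.thompsonSubgroupOf 2 (S : Subgroup G) ≤ T)
    (hT : T ≤ (S : Subgroup G)) :
    Cfsg.thompsonSubgroupOf 2 T = Cfsg.thompsonSubgroupOf 2 (S : Subgroup G) ∧
      xh (S : Subgroup G) ≤ xh T := by
  have hJT := JComp.jOf_eq_of_between hJ hT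
  have h1 : hatJ T ≤ hatJ (S : Subgroup G) := hatJ_le_iff.2 fun U hU hE hJU =>
    le_hatJ (hU.trans hT) hE (hJT.ge.trans hJU)
  exact ⟨hJT, le_xh (xh_elem _) ((xh_le_jOf _).trans (hJT.ge.trans (jOf_le_hatJ T)))
    (h1.trans (hatJ_le_cent_xh _))⟩

end

end Cfsg.Agent.TwoFactor
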