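import Cfsg.Agent.Lib.TwoFactor.Factors
import Cfsg.Agent.Lib.TwoFactor.CaseOut
import Cfsg.Agent.Lib.TwoFactor.CaseIn

/-!
The 2-factorization theorem.

Main results (namespace `Cfsg.Agent.TwoFactor`):
* `q_of_constrained`: `J(S)` centralises every conjugate of `Ω₁(Z(Ĵ(S)))`;
* `fact_omega`: `G = C(Ω₁(Z(Ĵ(S)))) N(J(S))`.
-/

set_option autoImplicit false
set_option linter.unusedSectionVars false
set_option linter.style.haveILetI false

namespace Cfsg.Agent.TwoFactor

open SFourClosed AlperinFamily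

universe u

theorem q_of_constrained : ∀ (n : ℕ) (G : Type u) [Group G] [Finite G], Nat.card G ≤ n →
    Subgroup.centralizer (Cfsg.pCore 2 G : Set G) ≤ Cfsg.pCore 2 G →
    ¬ Cfsg.Involves (Equiv.Perm (Fin 4)) G →
    Cfsg.IsCompositionKGroupWith Cfsg.IsSuzukiOrPSL2OddPowerThree G →
      ∀ S : Sylow 2 G, QOn (S : Subgroup G) ⊤ := by
  intro n
  induction n with
  | zero => intro G _ _ hn; exact absurd hn (Nat.card_pos (α := G)).not_ge
  | succ n ih =>
  intro G _ _ hn hchar hfree hc S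
  by_contra hq
  have hM : Min S := by
    refine ⟨hchar, hfree, hc, fun H hH hcon P h hh => ?_, hq⟩
    have hlt : Nat.card H < Nat.card G := by
      rw [← Subgroup.card_top (G := G)]
      exact Set.ncard_lt_ncard (lt_top_iff_ne_top.2 hH : H < ⊤) (Set.toFinite _)
    have h1 := ih ↥H (by omega) hcon (not_involves_subgroup hfree H)
      (comps_of_isSec hc ((FunctorControl.IsSec.refl G).subgroup H)) P ⟨h, hh⟩ trivial
    have hJ := PLocal.map_thompsonSubgroupOf (p := 2) H.subtype (H := (P : Subgroup ↥H)) H.subtype_injective.injOn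
    rw [← hJ]
    have hmap : cj h (xh ((P : Subgroup ↥H).map H.subtype)) =
        (cj (⟨h, hh⟩ : ↥H) (xh (P : Subgroup ↥H))).map H.subtype := by
      rw [← xh_map H.subtype H.subtype_injective, cj, cj, Subgroup.map_map, Subgroup.map_map]
      rfl
    rw [hmap, Subgroup.map_le_iff_le_comap, comap_centralizer H.subtype H.subtype_injective]
    exact h1
  obtain ⟨V, hV, hVJ, hVX, hJh, hVL, -⟩ := hM.exists_wit
  exact hM.not_wit_le hV hVL (hM.wit_le_core hV hVJ hVX hJh hVL)

/-- The factorization with `Ω₁(Z(Ĵ(S)))`. -/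
theorem fact_omega {G : Type u} [Group G] [Finite G]
    (hchar : Subgroup.centralizer (Cfsg.pCore 2 G : Set G) ≤ Cfsg.pCore 2 G)
    (hfree : ¬ Cfsg.Involves (Equiv.Perm (Fin 4)) G)
    (hc : Cfsg.IsCompositionKGroupWith Cfsg.IsSuzukiOrPSL2OddPowerThree G) (S : Sylow 2 G) (g : G) :
    ∃ c ∈ Subgroup.centralizer (xh (S : Subgroup G) : Set G),
      ∃ n ∈ Subgroup.normalizer ((Cfsg.thompsonSubgroupOf 2 (S : Subgroup G)) : Set G), g = c * n := by
  obtain ⟨n, hn, c, hc', he⟩ :=
    fact_of_q S le_top (q_of_constrained (Nat.card G) G le_rfl hchar hfree hc S) g⁻¹ trivial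
  exact ⟨c⁻¹, Subgroup.inv_mem _ hc'.2, n⁻¹, Subgroup.inv_mem _ hn.2,
    by rw [← mul_inv_rev, ← he, inv_inv]⟩

end Cfsg.Agent.TwoFactor
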