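import Cfsg.Agent.Lib.TwoFactor.Center
import Cfsg.Agent.S2760

/-!
Reductions in a minimal counterexample.

Main results (namespace `Cfsg.Agent.TwoFactor`):
* `Min`: the minimal situation; `Min.normal_eq_top`, `Min.sylow_inf_le`, `Min.sup_jOf`;
* `Min.exists_moved`, `Min.le_cent_of_cent`, `Min.not_core_le`;
* `Min.exists_wit`, `Min.commute_of_proper`.
-/

set_option autoImplicit false
set_option linter.unusedSectionVars false
set_option linter.style.haveILetI false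

namespace Cfsg.Agent.TwoFactor

open SFourClosed AlperinFamily

universe u

section
variable {G : Type u} [Group G] [Finite G]

/-- `J(T)` centralises the conjugates of `Ω₁(Z(Ĵ(T)))` under `H`. -/
def QOn (T H : Subgroup G) : Prop :=
  ∀ h ∈ H, Cfsg.thompsonSubgroupOf 2 T ≤ Subgroup.centralizer ((cj h (xh T) : Subgroup G) : Set G)

/-- A minimal counterexample. -/
structure Min (S : Sylow 2 G) : Prop where
  hchar : Subgroup.centralizer (Cfsg.pCore 2 G : Set G) ≤ Cfsg.pCore 2 G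
  hfree : ¬ Cfsg.Involves (Equiv.Perm (Fin 4)) G
  hc : Cfsg.IsCompositionKGroupWith Cfsg.IsSuzukiOrPSL2OddPowerThree G
  ih : ∀ H : Subgroup G, H ≠ ⊤ →
    Subgroup.centralizer (Cfsg.pCore 2 ↥H : Set ↥H) ≤ Cfsg.pCore 2 ↥H →
      ∀ P : Sylow 2 ↥H, QOn ((P : Subgroup ↥H).map H.subtype) H
  not_q : ¬ QOn (S : Subgroup G) ⊤

theorem constrained_of_ge (hchar : Subgroup.centralizer (Cfsg.pCore 2 G : Set G) ≤ Cfsg.pCore 2 G)
    {H : Subgroup G} (hOH : Cfsg.pCore 2 G ≤ H) :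
    Subgroup.centralizer (Cfsg.pCore 2 ↥H : Set ↥H) ≤ Cfsg.pCore 2 ↥H := by
  haveI := PReduced.pCore_normal 2 G
  have hle : (Cfsg.pCore 2 G).subgroupOf H ≤ Cfsg.pCore 2 ↥H :=
    PReduced.le_pCore inferInstance (PReduced.isPGroup_pCore (G := G) 2).comap_subtype
  intro x hx
  refine hle (Subgroup.mem_subgroupOf.2 (hchar (Subgroup.mem_centralizer_iff.2 fun o ho => ?_)))
  exact congrArg Subtype.val (Subgroup.mem_centralizer_iff.1 hx ⟨o, hOH ho⟩ (hle ho))

namespace Min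

variable {S : Sylow 2 G} (hM : Min S)
include hM

theorem normal_eq_top {N : Subgroup G} (hN : N.Normal)
    (hJ : Cfsg.thompsonSubgroupOf 2 (S : Subgroup G) ≤ N) : N = ⊤ := by
  haveI : Fact (Nat.Prime 2) := ⟨Nat.prime_two⟩
  haveI := hN
  by_contra hne
  refine hM.not_q fun g _ => ?_
  set P := PReduced.sylowOfSubnormal S (Subgroup.Normal.isSubnormal hN) with hP
  have hPm : (P : Subgroup ↥N).map N.subtype = (S : Subgroup G) ⊓ N := by
    rw [hP, PReduced.sylowOfSubnormal_coe, Subgroup.subgroupOf_map_subtype]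
  have hq := hM.ih N hne (S2760.result hM.hchar N (Or.inl hN)) P
  rw [hPm] at hq
  obtain ⟨hJT, hX⟩ := xh_le_of_between S (le_inf (JComp.jOf_le _) hJ) inf_le_left
  obtain ⟨a, ha, k, hk, rfl⟩ := PReduced.frattini_sylow_inf_mul S N g
  have haJ : a ∈ Subgroup.normalizer (Cfsg.thompsonSubgroupOf 2 (S : Subgroup G) : Set G) :=
    hJT ▸ PLocal.normalizer_le_normalizer_thompsonSubgroupOf _ ha
  rw [← cj_cj, ← cj_cent]
  refine (cj_eq_iff.2 haJ).ge.trans (Subgroup.map_mono ?_)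
  exact hJT.ge.trans ((hq k hk).trans (Subgroup.centralizer_le (Subgroup.map_mono hX)))

theorem q_sub {H : Subgroup G} (hne : H ≠ ⊤) (hO : Cfsg.pCore 2 G ≤ H) (hS : (S : Subgroup G) ≤ H) :
    QOn (S : Subgroup G) H := by
  have h := hM.ih H hne (constrained_of_ge hM.hchar hO) (S.subtype hS)
  rwa [show ((S.subtype hS : Sylow 2 ↥H) : Subgroup ↥H).map H.subtype = (S : Subgroup G) from
    Subgroup.map_subgroupOf_eq_of_le hS] at h

theorem sylow_inf_le {N : Subgroup G} (hN : N.Normal) (hL : ¬ Cfsg.pResidual 2 G ≤ N) :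
    (S : Subgroup G) ⊓ N ≤ Cfsg.pCore 2 G := by
  haveI : Fact (Nat.Prime 2) := ⟨Nat.prime_two⟩
  haveI := hN
  set O := Cfsg.pCore 2 G
  haveI : O.Normal := PReduced.pCore_normal 2 G
  have hOS : O ≤ (S : Subgroup G) := PReduced.pCore_le_sylow S
  set T1 := ((S : Subgroup G) ⊓ N) ⊔ O
  by_cases hT1 : T1.Normal
  · exact le_sup_left.trans (PReduced.le_pCore hT1 (S.isPGroup'.to_le (sup_le inf_le_left hOS)))
  exfalso
  refine hM.not_q fun g _ => ?_
  have hH2 : N ⊔ (S : Subgroup G) ≠ ⊤ := fun h => hL (pResidual_le_of_sup S h)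
  have hH1 : Subgroup.normalizer (T1 : Set G) ≠ ⊤ := fun h => hT1 (Subgroup.normalizer_eq_top_iff.1 h)
  have hN1 : ∀ a ∈ Subgroup.normalizer (((S : Subgroup G) ⊓ N : Subgroup G) : Set G),
      a ∈ Subgroup.normalizer (T1 : Set G) := fun a ha => cj_eq_iff.1 (by
    show (((S : Subgroup G) ⊓ N) ⊔ O).map _ = _
    rw [Subgroup.map_sup]
    congr 1
    · exact cj_eq_iff.2 ha
    · exact cj_eq_iff.2 ((Subgroup.normalizer_eq_top O).ge trivial))
  have hS1 : (S : Subgroup G) ≤ Subgroup.normalizer (T1 : Set G) := fun s hs => hN1 s (cj_eq_iff.1 (by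
    rw [cj_inf]
    congr 1
    · exact cj_eq_iff.2 (Subgroup.le_normalizer hs)
    · exact cj_eq_iff.2 ((Subgroup.normalizer_eq_top N).ge trivial)))
  obtain ⟨a, ha, c, hc, rfl⟩ := PReduced.frattini_sylow_inf_mul S N g
  obtain ⟨n1, hn1, c1, hc1, rfl⟩ :=
    fact_of_q S hS1 (hM.q_sub hH1 (hOS.trans hS1) hS1) a (hN1 a ha)
  obtain ⟨n2, hn2, c2, hc2, he⟩ :=
    fact_of_q S le_sup_right (hM.q_sub hH2 (hOS.trans le_sup_right) le_sup_right) (c1 * c * c1⁻¹)
      (Subgroup.mem_sup_left (hN.conj_mem c hc c1))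
  have e : n1 * c1 * c = (n1 * n2) * (c2 * c1) := by
    calc n1 * c1 * c = n1 * (c1 * c * c1⁻¹) * c1 := by group
      _ = (n1 * n2) * (c2 * c1) := by rw [he]; group
  rw [e]
  exact q_of_eq S (mul_mem hn1.2 hn2.2) (mul_mem hc2.2 hc1.2)

theorem sup_jOf : Cfsg.pResidual 2 G ⊔ Cfsg.thompsonSubgroupOf 2 (S : Subgroup G) = ⊤ := by
  haveI : Fact (Nat.Prime 2) := ⟨Nat.prime_two⟩
  by_contra hne
  obtain ⟨M, ⟨hMle, hMne⟩, hmax⟩ := Set.Finite.exists_maximal
    (Set.toFinite {M : Subgroup G |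
      Cfsg.pResidual 2 G ⊔ Cfsg.thompsonSubgroupOf 2 (S : Subgroup G) ≤ M ∧ M ≠ ⊤}) ⟨_, le_rfl, hne⟩
  haveI := PReduced.pResidual_normal 2 G
  have hdec : M = Cfsg.pResidual 2 G ⊔ ((S : Subgroup G) ⊓ M) := by
    refine le_antisymm (fun x hx => ?_) (sup_le (le_sup_left.trans hMle) inf_le_right)
    obtain ⟨l, hl, t, ht, rfl⟩ := PReduced.exists_eq_mul_of_pResidual S x
    have hlM : l ∈ M := hMle (Subgroup.mem_sup_left hl)
    refine Subgroup.mul_mem_sup hl ⟨ht, ?_⟩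
    have h := mul_mem (inv_mem hlM) hx
    rwa [inv_mul_cancel_left] at h
  have hSM : (S : Subgroup G) ⊓ M ≠ (S : Subgroup G) := fun h =>
    hMne (hdec.trans (by rw [h]; exact PReduced.pResidual_sup_sylow S))
  obtain ⟨x, ⟨hxS, hxN⟩, hxM⟩ := SetLike.not_le_iff_exists.1
    (exists_lt_inf_normalizer (p := 2) S.isPGroup' inf_le_left hSM).not_ge
  have hxNM : x ∈ Subgroup.normalizer (M : Set G) := by
    rw [hdec]
    refine cj_eq_iff.1 ?_
    show (Cfsg.pResidual 2 G ⊔ ((S : Subgroup G) ⊓ M)).map _ = _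
    rw [Subgroup.map_sup]
    congr 1
    · exact cj_eq_iff.2 ((Subgroup.normalizer_eq_top (Cfsg.pResidual 2 G)).ge trivial)
    · exact cj_eq_iff.2 hxN
  refine hMne (hM.normal_eq_top (Subgroup.normalizer_eq_top_iff.1 ?_) (le_sup_right.trans hMle))
  by_contra h
  have hle := hmax ⟨hMle.trans Subgroup.le_normalizer, h⟩ Subgroup.le_normalizer hxNM
  exact hxM ⟨hxS, hle⟩

theorem cent_eq_top {A : Subgroup G} (hL : Cfsg.pResidual 2 G ≤ Subgroup.centralizer (A : Set G))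
    (hJ : Cfsg.thompsonSubgroupOf 2 (S : Subgroup G) ≤ Subgroup.centralizer (A : Set G)) :
    Subgroup.centralizer (A : Set G) = ⊤ :=
  top_le_iff.1 (hM.sup_jOf.ge.trans (sup_le hL hJ))

/-- A minimal normal subgroup moved by `O²(G)`. -/
theorem exists_moved {B : Subgroup G} [B.Normal] (hB : IsPGroup 2 B)
    (hL : ¬ Cfsg.pResidual 2 G ≤ Subgroup.centralizer (B : Set G)) :
    ∃ (Xm X0 : Subgroup G) (_ : Xm.Normal) (_ : X0.Normal), Xm ≤ B ∧ X0 ≤ Xm ∧ ¬ Xm ≤ X0 ∧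
      X0 ≤ Subgroup.centralizer (Cfsg.pResidual 2 G : Set G) ∧
      (∀ Y : Subgroup G, Y.Normal → Y ≤ Xm → Xm ≤ Y ∨ Y ≤ X0) ∧
      Cfsg.pCore 2 G ≤ stab Xm X0 ∧ ¬ Cfsg.pResidual 2 G ≤ stab Xm X0 ∧
      (∀ P : Subgroup G, P.Normal → PReduced.pMod 2 (stab Xm X0) P → P ≤ stab Xm X0) := by
  haveI : Fact (Nat.Prime 2) := ⟨Nat.prime_two⟩
  haveI := PReduced.pResidual_normal 2 G
  obtain ⟨Xm, ⟨hXn, hXB, hXL⟩, hmin⟩ := exists_minimal_of_wellFoundedLT
    (fun Y : Subgroup G => Y.Normal ∧ Y ≤ B ∧ ¬ Cfsg.pResidual 2 G ≤ Subgroup.centralizer (Y : Set G))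
    ⟨B, inferInstance, le_rfl, hL⟩
  haveI := hXn
  haveI : (Subgroup.centralizer (Cfsg.pResidual 2 G : Set G)).Normal := Subgroup.normal_centralizer
  set X0 := Xm ⊓ Subgroup.centralizer (Cfsg.pResidual 2 G : Set G)
  haveI : X0.Normal := inferInstance
  have hne : ¬ Xm ≤ X0 := fun h => hXL (le_cent_comm (h.trans inf_le_right))
  have hmax : ∀ Y : Subgroup G, Y.Normal → Y ≤ Xm → Xm ≤ Y ∨ Y ≤ X0 := by
    intro Y hY hle
    by_cases h : Cfsg.pResidual 2 G ≤ Subgroup.centralizer (Y : Set G)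
    · exact Or.inr (le_inf hle (le_cent_comm h))
    · exact Or.inl (hmin ⟨hY, hle.trans hXB, h⟩ hle)
  have hXS : Xm ≤ (S : Subgroup G) :=
    hXB.trans ((PReduced.le_pCore inferInstance hB).trans (PReduced.pCore_le_sylow S))
  have hred := red_of_min S Xm X0 hXS inf_le_left hne fun Y hY _ hle => hmax Y hY hle
  refine ⟨Xm, X0, hXn, inferInstance, hXB, inf_le_left, hne, inf_le_right, hmax, ?_, fun h => hXL ?_, hred⟩
  · refine hred _ (PReduced.pCore_normal 2 G) fun x hx => ?_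
    obtain ⟨k, hk⟩ := PReduced.isPGroup_pCore (G := G) 2 ⟨x, hx⟩
    exact ⟨k, by rw [show x ^ 2 ^ k = 1 from congrArg Subtype.val hk]; exact one_mem _⟩
  · have h1 := le_stab_of_stab (A := X0) (X := ⊥) (hB.to_le hXB) inf_le_left
      (by rw [stab_bot]; exact le_cent_comm inf_le_right) h
    rwa [stab_bot] at h1

omit hM in
theorem stab_comm_mem {R X X0 : Subgroup G} [X0.Normal] (hR : Cfsg.IsElementaryAbelian 2 R) :
    (∀ r ∈ R, ∀ s ∈ R, r * s * r⁻¹ * s⁻¹ ∈ stab X X0) ∧ ∀ r ∈ R, r * r ∈ stab X X0 :=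
  ⟨fun r hr s hs => by rw [JComp.elem_comm hR hr hs, mul_inv_cancel_right, mul_inv_cancel]; exact one_mem _,
    fun r hr => by rw [JComp.elem_mul_self hR hr]; exact one_mem _⟩

/-- `O²(G)` centralises an elementary normal subgroup centralised by `O₂(G)`. -/
theorem le_cent_of_cent {W : Subgroup G} [W.Normal] (hW : Cfsg.IsElementaryAbelian 2 W)
    (hO : Cfsg.pCore 2 G ≤ Subgroup.centralizer (W : Set G)) :
    Cfsg.pResidual 2 G ≤ Subgroup.centralizer (W : Set G) := by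
  haveI : Fact (Nat.Prime 2) := ⟨Nat.prime_two⟩
  by_contra hL
  obtain ⟨Xm, X0, hXn, hX0n, hXW, hle, hne, -, hmax, hOK, hLK, hred⟩ :=
    hM.exists_moved (PLocal.elemAb_isPGroup hW) hL
  have hWS : W ≤ (S : Subgroup G) :=
    (PReduced.le_pCore inferInstance (PLocal.elemAb_isPGroup hW)).trans (PReduced.pCore_le_sylow S)
  refine hLK (le_top.trans (hM.normal_eq_top inferInstance ?_).ge)
  refine JComp.jOf_le_iff.2 fun A hA => ?_
  have hXe := PLocal.elemAb_mono hW hXW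
  obtain ⟨h1, h2⟩ := stab_comm_mem (X := Xm) (X0 := X0) hA.2.1
  have k1 := (sec_bounds hM.hfree hM.hc Xm X0 (PLocal.elemAb_isPGroup hXe)
    (fun x hx y hy => by
      rw [JComp.elem_comm hXe hx hy, mul_inv_cancel_right, mul_inv_cancel]; exact one_mem _)
    (fun x hx => by rw [JComp.elem_mul_self hXe hx]; exact one_mem _) hred (R := A) h1 h2).1
  set y := (stab Xm X0).relIndex A
  have k2 : (stab A X0).relIndex Xm ≤ (Subgroup.centralizer (W : Set G)).relIndex A :=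
    ((Subgroup.relIndex_le_of_le_left (centralizer_le_stab A X0) Subgroup.index_ne_zero_of_finite).trans
      (Subgroup.relIndex_le_of_le_right hXW Subgroup.index_ne_zero_of_finite)).trans
      (relIndex_le_of_maxElem hW hWS hA)
  have k3 : (Subgroup.centralizer (W : Set G)).relIndex A ≤ y := by
    show _ ≤ (stab Xm X0).relIndex A
    rw [← Subgroup.inf_relIndex_right (stab Xm X0) A]
    refine Subgroup.relIndex_le_of_le_left ?_ Subgroup.index_ne_zero_of_finite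
    exact le_trans (le_inf (inf_le_right.trans hA.1) inf_le_left) ((hM.sylow_inf_le inferInstance hLK).trans hO)
  refine Subgroup.relIndex_eq_one.1 ?_
  have hp : 0 < y := relIndex_pos _ _
  have h4 : y * y ≤ y := by rw [← pow_two]; exact k1.trans (k2.trans k3)
  exact le_antisymm (Nat.le_of_mul_le_mul_left (h4.trans (mul_one y).ge) hp) hp

theorem not_core_le : ¬ Cfsg.pCore 2 G ≤ Subgroup.centralizer (xh (S : Subgroup G) : Set G) := by
  intro hO
  refine hM.not_q fun g _ => ?_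
  haveI := PReduced.pCore_normal 2 G
  set W := Cfsg.omegaOne 2 (Subgroup.centralizer (Cfsg.pCore 2 G : Set G))
  haveI : W.Normal := PReduced.omegaOne_normal Subgroup.normal_centralizer 2
  have hW : Cfsg.IsElementaryAbelian 2 W := PReduced.omegaOne_isElementaryAbelian
    fun a ha b hb => (Subgroup.mem_centralizer_iff.1 ha b (hM.hchar hb)).symm
  have hXW : xh (S : Subgroup G) ≤ W := fun x hx =>
    PReduced.mem_omegaOne (le_cent_comm hO hx) ((xh_elem _).2 x hx)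
  have hL := hM.le_cent_of_cent hW (le_cent_comm (PReduced.omegaOne_le 2 _))
  have htop := hM.cent_eq_top (hL.trans (Subgroup.centralizer_le hXW)) (jOf_le_cent_xh _)
  have := q_of_eq S (n := 1) (c := g) (one_mem _) (htop ▸ Subgroup.mem_top g)
  rwa [one_mul] at this

theorem not_isEGroup : ¬ Cfsg.IsEGroup ↥(S : Subgroup G) := fun hE => by
  haveI : Fact (Nat.Prime 2) := ⟨Nat.prime_two⟩
  exact hM.not_core_le ((PReduced.pCore_le_sylow S).trans
    ((le_hatJ le_rfl hE (JComp.jOf_le _)).trans (hatJ_le_cent_xh _)))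

/-- The witness. -/
theorem exists_wit : ∃ V : Subgroup G, Wit (S : Subgroup G) V ∧
    V ≤ Cfsg.thompsonSubgroupOf 2 (S : Subgroup G) ∧ V ≤ xh (S : Subgroup G) ∧
    hatJ (S : Subgroup G) ≤ Subgroup.centralizer (V : Set G) ∧
    ¬ Cfsg.pResidual 2 G ≤ Subgroup.centralizer (V : Set G) ∧
    ¬ Cfsg.pCore 2 G ≤ Subgroup.centralizer (V : Set G) := by
  have h := hM.not_isEGroup
  rw [eg_iff] at h
  push Not at h
  obtain ⟨V, hV, hVc⟩ := h
  have hVJ := le_jOf_of_cent hV.2.2.1 hV.1 hV.jOf_le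
  have hJh : hatJ (S : Subgroup G) ≤ Subgroup.centralizer (V : Set G) :=
    hatJ_le_iff.2 fun U hU hE hJU => (eg_iff U).1 hE V
      ⟨hVJ.trans hJU, hU.trans hV.2.1, hV.2.2.1, fun R hR => hV.2.2.2 R (hR.trans hU)⟩
  have hL : ¬ Cfsg.pResidual 2 G ≤ Subgroup.centralizer (V : Set G) :=
    fun hL => hVc (le_top.trans (hM.cent_eq_top hL hV.jOf_le).ge)
  refine ⟨V, hV, hVJ, le_xh hV.2.2.1 (hVJ.trans (jOf_le_hatJ _)) hJh, hJh, hL, fun hO => hL ?_⟩
  haveI := PReduced.pCore_normal 2 G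
  set W := Cfsg.omegaOne 2 (Subgroup.centralizer (Cfsg.pCore 2 G : Set G))
  haveI : W.Normal := PReduced.omegaOne_normal Subgroup.normal_centralizer 2
  have hW : Cfsg.IsElementaryAbelian 2 W := PReduced.omegaOne_isElementaryAbelian
    fun a ha b hb => (Subgroup.mem_centralizer_iff.1 ha b (hM.hchar hb)).symm
  exact (hM.le_cent_of_cent hW (le_cent_comm (PReduced.omegaOne_le 2 _))).trans
    (Subgroup.centralizer_le fun v hv => PReduced.mem_omegaOne (le_cent_comm hO hv) (hV.2.2.1.2 v hv))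

/-- In proper subgroups above `O₂(G)` and `Ĵ(S)` the conjugates of `V` commute. -/
theorem commute_of_proper {V : Subgroup G} (hVJ : V ≤ Cfsg.thompsonSubgroupOf 2 (S : Subgroup G))
    (hVX : V ≤ xh (S : Subgroup G)) {H : Subgroup G} (hne : H ≠ ⊤) (hO : Cfsg.pCore 2 G ≤ H)
    (hJ : hatJ (S : Subgroup G) ≤ H) {h : G} (hh : h ∈ H) :
    cj h V ≤ Subgroup.centralizer (V : Set G) := by
  haveI : Fact (Nat.Prime 2) := ⟨Nat.prime_two⟩
  have hp : IsPGroup 2 ↥(Cfsg.pCore 2 G ⊔ hatJ (S : Subgroup G)) :=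
    S.isPGroup'.to_le (sup_le (PReduced.pCore_le_sylow S) (hatJ_le _))
  obtain ⟨P, hP⟩ := (hp.comap_subtype (K := H)).exists_le_sylow
  have hle : hatJ (S : Subgroup G) ≤ (P : Subgroup ↥H).map H.subtype := fun x hx =>
    ⟨⟨x, hJ hx⟩, hP (Subgroup.mem_sup_right hx), rfl⟩
  obtain ⟨-, hX, hJT⟩ := hatJ_of_ge S (P.isPGroup'.map _) hle
  have hq := hM.ih H hne (constrained_of_ge hM.hchar hO) P h hh
  rw [hX, hJT] at hq
  exact le_cent_comm ((hVJ.trans hq).trans (Subgroup.centralizer_le (Subgroup.map_mono hVX)))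

end Min

end

end Cfsg.Agent.TwoFactor
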